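/-
Simple groups of conjugate type rank four (S3193): definitions and the statements of the jobs.
-/
import Cfsg.Agent.Cit.Ito8
import Cfsg.Agent.Abel2.Small

set_option autoImplicit false

universe u

namespace CL.Rk4

open Subgroup Cfsg CL.Grp CL.Fgs CL.Cit
open scoped MatrixGroups

/-- non-abelian simple -/
def NAS (G : Type*) [Group G] : Prop := IsSimpleGroup G ∧ ¬ IsMulCommutative G

/-- there are five different orders of centralizers of non-identity elements -/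
def Rank5 (G : Type*) [Group G] : Prop :=
  5 ≤ {n : ℕ | ∃ x : G, x ≠ 1 ∧ Nat.card cent(x) = n}.ncard

/-- three non-identity elements with different odd centralizer orders -/
def Odd3 (G : Type*) [Group G] : Prop :=
  ∃ x y z : G, x ≠ 1 ∧ y ≠ 1 ∧ z ≠ 1 ∧ Odd (Nat.card cent(x)) ∧ Odd (Nat.card cent(y)) ∧
    Odd (Nat.card cent(z)) ∧ Nat.card cent(x) ≠ Nat.card cent(y) ∧
    Nat.card cent(x) ≠ Nat.card cent(z) ∧ Nat.card cent(y) ≠ Nat.card cent(z)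

/-- some 2-central involution has a 2-closed centralizer -/
def G1 (G : Type*) [Group G] : Prop :=
  ∃ (t : G) (S : Sylow 2 G), orderOf t = 2 ∧ (S : Subgroup G) ≤ cent(t) ∧
    ((S : Subgroup G).subgroupOf cent(t)).Normal

/-- all involution centralizers are 2-nilpotent -/
def G2 (G : Type*) [Group G] : Prop := ∀ t : G, orderOf t = 2 → HasNormalPComplement 2 cent(t)

/-- abelian Sylow 2-subgroups and solvable involution centralizers -/
def G3 (G : Type*) [Group G] : Prop :=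
  (∀ S : Sylow 2 G, IsMulCommutative (S : Subgroup G)) ∧
    ∀ t : G, orderOf t = 2 → Group.IsSolvable cent(t)

/-- every element of odd order of `D` has odd class size in `D` -/
def Dir {G : Type*} [Group G] (D : Subgroup G) : Prop :=
  ∀ u ∈ D, IsPiElt {2}ᶜ u → ¬ 2 ∣ (cent(u)).relIndex D

/-- the hypothesis of the core lemma -/
structure CH (G : Type*) [Group G] (c : ℕ) : Prop where
  nas : NAS G
  head : ∀ v x : G, orderOf v = 2 → cs(v) ≠ c → x ≠ 1 → cs(x) ∣ cs(v) → cs(x) = cs(v)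
  low : ∀ s x : G, IsPiElt {2} s → s ≠ 1 → x ≠ 1 → cs(s) ∣ cs(x) → cs(x) = cs(s) ∨ cs(x) = c

/-- two minimal class sizes `n₁`, `n₂` and at most two further class sizes `a`, `b` -/
structure K2 (G : Type*) [Group G] (n₁ n₂ a b : ℕ) : Prop where
  nas : NAS G
  four : ∀ x : G, x ≠ 1 → cs(x) = n₁ ∨ cs(x) = n₂ ∨ cs(x) = a ∨ cs(x) = b
  ex₁ : ∃ x : G, x ≠ 1 ∧ cs(x) = n₁
  ex₂ : ∃ x : G, x ≠ 1 ∧ cs(x) = n₂
  head₁ : ∀ x : G, x ≠ 1 → cs(x) ∣ n₁ → cs(x) = n₁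
  head₂ : ∀ x : G, x ≠ 1 → cs(x) ∣ n₂ → cs(x) = n₂
  below : ∀ x : G, x ≠ 1 → n₁ ∣ cs(x) ∨ n₂ ∣ cs(x)

/-- the first consequences of `K2` -/
structure K2P (G : Type*) [Group G] (n₁ n₂ a b : ℕ) : Prop extends K2 G n₁ n₂ a b where
  cop : n₁.Coprime n₂
  two₁ : ∀ l : ℕ, ∃ p : ℕ, p.Prime ∧ p ≠ l ∧ p ∣ n₁
  two₂ : ∀ l : ℕ, ∃ p : ℕ, p.Prime ∧ p ≠ l ∧ p ∣ n₂
  ncomm : ∀ x y : G, cs(x) = n₁ → cs(y) = n₂ → ¬ Commute x y
  ord₁ : ∀ (x : G) (r : ℕ), cs(x) = n₁ → r.Prime → r ∣ orderOf x → r ∣ n₂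
  ord₂ : ∀ (y : G) (s : ℕ), cs(y) = n₂ → s.Prime → s ∣ orderOf y → s ∣ n₁
  exp₁ : ∃ x : G, (orderOf x).Prime ∧ cs(x) = n₁
  exp₂ : ∃ y : G, (orderOf y).Prime ∧ cs(y) = n₂

/-- Lemma X -/
def LX (G : Type*) [Group G] (n₁ n₂ : ℕ) : Prop :=
  ∀ (l : ℕ) (u x y : G), l.Prime → IsPiElt {l} u → u ≠ 1 → (orderOf x).Prime → (orderOf y).Prime →
    orderOf x ≠ l → orderOf y ≠ l → cs(x) = n₁ → cs(y) = n₂ → Commute u x → Commute u y → False

/-- the last configuration -/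
structure K3 (G : Type*) [Group G] (n₁ n₂ a b : ℕ) : Prop extends K2P G n₁ n₂ a b where
  card : Nat.card G = n₁ * n₂
  even : 2 ∣ n₂
  da : n₁ ∣ a
  db : n₁ ∣ b

/-- the elements of class size `n` are isolated -/
def Isol (G : Type*) [Group G] (n : ℕ) : Prop :=
  ∀ z : G, cs(z) = n → ∀ g : G, Commute z (g * z * g⁻¹) → g * z * g⁻¹ = z

/-! ### the jobs -/

def JTri : Prop := ∀ (G : Type u) [Group G] [Finite G], NAS G → ¬ Rank5 G →
  (∃ c, CH G c) ∨ ∃ n₁ n₂ a b, K2 G n₁ n₂ a b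

def JDir : Prop := ∀ (G : Type u) [Group G] [Finite G] (D : Subgroup G), Dir D →
  HasNormalPComplement 2 D ∧ Group.IsSolvable D ∧
    ∀ S : Sylow 2 G, (S : Subgroup G) ≤ D → ((S : Subgroup G).subgroupOf D).Normal

def JDich : Prop := ∀ (G : Type u) [Group G] [Finite G] (c : ℕ), CH G c → ∀ v : G, orderOf v = 2 →
  Dir cent(v) ∨ (Group.IsSolvable cent(v) ∧ ∃ k : ℕ, 1 ≤ k ∧ c = 2 ^ k * cs(v))

def JPQ : Prop := ∀ (G : Type u) [Group G] [Finite G] (D A : Subgroup G) (s : G),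
  Group.IsSolvable D → s ∈ D → IsPiElt {2} s → A ≤ D → Odd (Nat.card A) →
  (∃ k : ℕ, A.relIndex D = 2 ^ k) → cent(s) ⊓ D ≤ centralizer (A : Set G) →
  HasNormalPComplement 2 D

def JCore : Prop := JDir.{u} → JDich.{u} → JPQ.{u} →
  ∀ (G : Type u) [Group G] [Finite G] (c : ℕ), CH G c → G1 G ∨ G2 G ∨ G3 G

def JK2P : Prop := ∀ (G : Type u) [Group G] [Finite G] (n₁ n₂ a b : ℕ), K2 G n₁ n₂ a b →
  K2P G n₁ n₂ a b

def JLX : Prop := ∀ (G : Type u) [Group G] [Finite G] (n₁ n₂ a b : ℕ), K2P G n₁ n₂ a b →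
  LX G n₁ n₂

def JM1 : Prop := ∀ (G : Type u) [Group G] [Finite G] (n₁ n₂ a b : ℕ), K2P G n₁ n₂ a b →
  LX G n₁ n₂ → Nat.card G = n₁ * n₂

def JSplit : Prop := ∀ (G : Type u) [Group G] [Finite G] (n₁ n₂ a b : ℕ), K2P G n₁ n₂ a b →
  Nat.card G = n₁ * n₂ → 2 ∣ n₂ → (∃ c, CH G c) ∨ K3 G n₁ n₂ a b

def JIsol : Prop := ∀ (G : Type u) [Group G] [Finite G] (n₁ n₂ a b : ℕ), K3 G n₁ n₂ a b →
  Isol G n₁

def JSE : Prop := JDir.{u} → ∀ (G : Type u) [Group G] [Finite G] (n₁ n₂ a b : ℕ),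
  K3 G n₁ n₂ a b → Isol G n₁ → G1 G ∨ ∃ H : Subgroup G, IsStronglyEmbedded H

def JSz : Prop := ∀ (G : Type u) [Group G], Lie.IsoSuzuki G → Odd3 G

def JL3 : Prop := ∀ (F : Type) [Field F] [Fintype F] (n : ℕ), 2 ≤ n → Fintype.card F = 2 ^ n →
  Odd3 PSL(3, F) ∧ ¬ CL.Abel2.AbSyl PSL(3, F)

def JU3 : Prop := ∀ (F : Type) [Field F] [Fintype F] (n : ℕ), 2 ≤ n →
  Fintype.card F = (2 ^ n) ^ 2 → Odd3 (PSU 3 F (2 ^ n))

def JS4 : Prop := ∀ (F : Type) [Field F] [Fintype F] (n : ℕ), 2 ≤ n → Fintype.card F = 2 ^ n →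
  Rank5 (PSp 2 F)

def JA7 : Prop := Odd3 (alternatingGroup (Fin 7)) ∧ ¬ CL.Abel2.AbSyl (alternatingGroup (Fin 7))

def JL25 : Prop := ∀ (F : Type) [Field F] [Fintype F], Fintype.card F = 5 →
  ∃ (E : Type) (_ : Field E) (_ : Fintype E), Fintype.card E = 4 ∧ Nonempty (PSL(2, F) ≃* PSL(2, E))

/-! ### small tools -/

section
variable {G : Type*} [Group G] {n₁ n₂ a b : ℕ}

theorem NAS.center_eq (h : NAS G) : center G = ⊥ := by
  have := h.1
  exact ito_center_eq_bot h.2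

theorem NAS.not_mem_center (h : NAS G) {x : G} (hx : x ≠ 1) : x ∉ center G := by
  rw [h.center_eq]; exact hx

theorem NAS.one_lt_cs [Finite G] (h : NAS G) {x : G} (hx : x ≠ 1) : 1 < cs(x) :=
  CL.Fgs.one_lt_cs (h.not_mem_center hx)

theorem NAS.not_solvable (h : NAS G) : ¬ Group.IsSolvable G := by
  have := h.1
  exact ito_not_solvable h.2

theorem K2.symm (h : K2 G n₁ n₂ a b) : K2 G n₂ n₁ a b :=
  ⟨h.nas, fun x hx => by have := h.four x hx; tauto, h.ex₂, h.ex₁, h.head₂, h.head₁,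
    fun x hx => (h.below x hx).symm⟩

theorem K2.swap (h : K2 G n₁ n₂ a b) : K2 G n₁ n₂ b a :=
  ⟨h.nas, fun x hx => by have := h.four x hx; tauto, h.ex₁, h.ex₂, h.head₁, h.head₂, h.below⟩

theorem K2P.symm (h : K2P G n₁ n₂ a b) : K2P G n₂ n₁ a b :=
  ⟨h.toK2.symm, h.cop.symm, h.two₂, h.two₁, fun x y hx hy hc => h.ncomm y x hy hx hc.symm,
    h.ord₂, h.ord₁, h.exp₂, h.exp₁⟩

theorem K2P.swap (h : K2P G n₁ n₂ a b) : K2P G n₁ n₂ b a :=
  ⟨h.toK2.swap, h.cop, h.two₁, h.two₂, h.ncomm, h.ord₁, h.ord₂, h.exp₁, h.exp₂⟩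

theorem K3.swap (h : K3 G n₁ n₂ a b) : K3 G n₁ n₂ b a :=
  ⟨h.toK2P.swap, h.card, h.even, h.db, h.da⟩

theorem LX.symm (h : LX G n₁ n₂) : LX G n₂ n₁ :=
  fun l u x y h1 h2 h3 h4 h5 h6 h7 h8 h9 h10 h11 => h l u y x h1 h2 h3 h5 h4 h7 h6 h9 h8 h11 h10

/-- the product of commuting elements of coprime orders, one of them non-trivial, is non-trivial -/
theorem mul_ne_one_of_coprime {w v : G} (hw : w ≠ 1) (hc : Commute w v)
    (ho : (orderOf w).Coprime (orderOf v)) : w * v ≠ 1 := fun e => by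
  have := mem_zpowers_mul_of_coprime hc ho
  rw [e, zpowers_one_eq_bot] at this
  exact hw this

/-- a prime dividing `|C(x)|` and not the order of `x` gives an element of order `r * orderOf x` -/
theorem exists_orderOf_mul [Finite G] {x : G} {r : ℕ} (hr : r.Prime) (h : r ∣ Nat.card cent(x))
    (h' : ¬ r ∣ orderOf x) : ∃ g : G, orderOf g = r * orderOf x := by
  have := Fact.mk hr
  obtain ⟨y, hy⟩ := exists_prime_orderOf_dvd_card' r h
  rw [← Subgroup.orderOf_coe] at hy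
  refine ⟨y * x, ?_⟩
  rw [(mem_cent.1 y.2).orderOf_mul_eq_mul_orderOf_of_coprime (by
    rw [hy]; exact (Nat.Prime.coprime_iff_not_dvd hr).2 h'), hy]

theorem orderOf_dvd_card_cent (x : G) : orderOf x ∣ Nat.card cent(x) :=
  Subgroup.orderOf_dvd_natCard _ (self_mem_cent x)

theorem rank5_of [Finite G] {x₁ x₂ x₃ x₄ x₅ : G} (h₁ : x₁ ≠ 1) (h₂ : x₂ ≠ 1) (h₃ : x₃ ≠ 1)
    (h₄ : x₄ ≠ 1) (h₅ : x₅ ≠ 1)
    (h : [Nat.card cent(x₁), Nat.card cent(x₂), Nat.card cent(x₃), Nat.card cent(x₄),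
      Nat.card cent(x₅)].Nodup) : Rank5 G := by
  classical
  have hf : {n : ℕ | ∃ x : G, x ≠ 1 ∧ Nat.card cent(x) = n}.Finite :=
    (Set.finite_range fun x : G => Nat.card cent(x)).subset fun _ ⟨x, _, e⟩ => ⟨x, e⟩
  have := Set.ncard_le_ncard (s := ↑([Nat.card cent(x₁), Nat.card cent(x₂), Nat.card cent(x₃),
    Nat.card cent(x₄), Nat.card cent(x₅)].toFinset)) (fun n hn => ?_) hf
  · rwa [Set.ncard_coe_finset, List.toFinset_card_of_nodup h] at this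
  · simp only [List.coe_toFinset, List.mem_cons, List.not_mem_nil, or_false, Set.mem_ofPred_eq] at hn
    rcases hn with rfl | rfl | rfl | rfl | rfl
    exacts [⟨_, h₁, rfl⟩, ⟨_, h₂, rfl⟩, ⟨_, h₃, rfl⟩, ⟨_, h₄, rfl⟩, ⟨_, h₅, rfl⟩]

/-- Lemma D: if all elements commuting with `x` satisfy `y ^ N = 1`, then the primes dividing the order of
the centralizer of the image of `x` modulo the centre divide `N`. -/
theorem dvd_of_dvd_card_cent_mk [Finite G] {x : G} {N r : ℕ} (h : ∀ y : G, Commute y x → y ^ N = 1)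
    (hr : r.Prime) (hd : r ∣ Nat.card cent((x : G ⧸ center G))) : r ∣ N := by
  have := Fact.mk hr
  obtain ⟨⟨y, hy⟩, ho⟩ := exists_prime_orderOf_dvd_card' r hd
  rw [Subgroup.orderOf_mk] at ho
  obtain ⟨y, rfl⟩ := QuotientGroup.mk_surjective y
  have hz : y * x * y⁻¹ * x⁻¹ ∈ center G := by
    rw [← QuotientGroup.eq_one_iff]
    simp only [QuotientGroup.mk_mul, QuotientGroup.mk_inv]
    rw [(mem_cent.1 hy).eq]; group
  set z := y * x * y⁻¹ * x⁻¹ with hzd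
  have hzc : ∀ g : G, Commute g z := fun g => mem_center_iff.1 hz g
  have key : ∀ k : ℕ, y ^ k * x = z ^ k * x * y ^ k := fun k => by
    induction k with
    | zero => simp
    | succ k ih =>
      have e : y * x = z * x * y := by rw [hzd]; group
      calc y ^ (k + 1) * x = y ^ k * (y * x) := by rw [pow_succ, mul_assoc]
        _ = y ^ k * z * x * y := by rw [e]; group
        _ = z * (y ^ k * x) * y := by rw [(hzc (y ^ k)).eq]; group
        _ = z ^ (k + 1) * x * y ^ (k + 1) := by rw [ih]; group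
  have h1 : (y ^ N) ^ N = 1 := h _ (by
    have := key N
    rw [h z (hzc x).symm, one_mul] at this
    exact this)
  have h2 : r ∣ N * N := by
    rw [← ho, orderOf_dvd_iff_pow_eq_one, ← QuotientGroup.mk_pow, pow_mul, h1, QuotientGroup.mk_one]
  exact (hr.dvd_mul.1 h2).elim id id

end

end CL.Rk4
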