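/-
Simple groups of conjugate type rank four: the alternating group of degree seven.
-/
import Cfsg.Agent.Rk4.Defs

set_option autoImplicit false

universe u

namespace CL.Rk4

open Subgroup Cfsg CL.Grp CL.Fgs CL.Cit
open scoped MatrixGroups

namespace A7

open Equiv

theorem dvd_iff {G : Type*} [Group G] [Finite G] {x : G} {p r : ℕ} (hp : p.Prime) (hr : r.Prime) (x1 : x ≠ 1)
    (h : ∀ g : G, Commute g x → g ^ p = 1) : r ∣ Nat.card cent(x) ↔ r = p := by
  have := Fact.mk hp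
  have := Fact.mk hr
  refine ⟨fun hd => ?_, fun e => ?_⟩
  · obtain ⟨g, hg⟩ := exists_prime_orderOf_dvd_card' r hd
    refine (Nat.prime_dvd_prime_iff_eq hr hp).1 ?_
    rw [← hg, ← Subgroup.orderOf_coe]
    exact orderOf_dvd_of_pow_eq_one (h _ (mem_cent.1 g.2))
  · rw [e, ← orderOf_eq_prime (h x (Commute.refl x)) x1]
    exact orderOf_dvd_card_cent x

def x5 : Perm (Fin 7) := ⟨![1, 2, 3, 4, 0, 5, 6], ![4, 0, 1, 2, 3, 5, 6], by decide, by decide⟩
def x7 : Perm (Fin 7) := ⟨![1, 2, 3, 4, 5, 6, 0], ![6, 0, 1, 2, 3, 4, 5], by decide, by decide⟩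
def x3 : Perm (Fin 7) := ⟨![1, 2, 0, 4, 5, 3, 6], ![2, 0, 1, 5, 3, 4, 6], by decide, by decide⟩
def x4 : Perm (Fin 7) := ⟨![1, 2, 3, 0, 5, 4, 6], ![3, 0, 1, 2, 5, 4, 6], by decide, by decide⟩
def x2 : Perm (Fin 7) := ⟨![2, 1, 0, 3, 5, 4, 6], ![2, 1, 0, 3, 5, 4, 6], by decide, by decide⟩

/-- a function commuting with `x`, injective and even has `p`-th iterate the identity -/
def Ok (x : Perm (Fin 7)) (p : ℕ) (f : Fin 7 → Fin 7) : Prop :=
  (∀ i, f (x i) = x (f i)) → (∀ i j, f i = f j → i = j) →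
    (∏ i, ∏ j ∈ Finset.Ioi i, if f i < f j then 1 else -1 : ℤˣ) = 1 → ∀ i, Nat.iterate f p i = i

instance decOk (x : Perm (Fin 7)) (p : ℕ) (f : Fin 7 → Fin 7) : Decidable (Ok x p f) := by
  unfold Ok; infer_instance

/-- the finite check -/
def All (x : Perm (Fin 7)) (p : ℕ) : Prop :=
  ∀ a, ∀ b, x a = b → ∀ c, x b = c → ∀ d, (x 2 = 3 → x c = d) →
    ∀ e, (x 3 = 4 → x d = e) → ∀ f, (x 4 = 5 → x e = f) → ∀ g, Ok x p ![a, b, c, d, e, f, g]

set_option synthInstance.maxSize 2000 in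
instance decAll (x : Perm (Fin 7)) (p : ℕ) : Decidable (All x p) := by
  unfold All; infer_instance

theorem cen (x : alternatingGroup (Fin 7)) (p : ℕ) (h : All x.1 p) (h0 : x.1 0 = 1) (h1 : x.1 1 = 2) :
    ∀ g, Commute g x → g ^ p = 1 := fun g hg => by
  have k : ∀ i, g.1 (x.1 i) = x.1 (g.1 i) := fun i => DFunLike.congr_fun (congrArg Subtype.val hg) i
  have e : ![g.1 0, g.1 1, g.1 2, g.1 3, g.1 4, g.1 5, g.1 6] = g.1 := by ext i; fin_cases i <;> rfl
  have := h (g.1 0) (g.1 1) (by rw [← k, h0]) (g.1 2) (by rw [← k, h1]) (g.1 3) (fun e => by rw [← k, e]) (g.1 4)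
    (fun e => by rw [← k, e]) (g.1 5) (fun e => by rw [← k, e]) (g.1 6)
  rw [e, Ok, ← Perm.sign_eq_prod_prod_Ioi] at this
  exact Subtype.ext (Equiv.ext fun i => (congrFun (Perm.iterate_eq_pow g.1 p) i).symm.trans
    (this k (fun _ _ e => g.1.injective e) g.2 i))

end A7

open A7 in
theorem jA7 : JA7 := by
  refine ⟨?_, fun h => ?_⟩
  · let x : alternatingGroup (Fin 7) := ⟨x5, Equiv.Perm.mem_alternatingGroup.2 (by decide +kernel)⟩
    let y : alternatingGroup (Fin 7) := ⟨x7, Equiv.Perm.mem_alternatingGroup.2 (by decide +kernel)⟩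
    let z : alternatingGroup (Fin 7) := ⟨x3, Equiv.Perm.mem_alternatingGroup.2 (by decide +kernel)⟩
    have x1 : x ≠ 1 := by decide +kernel
    have y1 : y ≠ 1 := by decide +kernel
    have z1 : z ≠ 1 := by decide +kernel
    have hx := fun r hr => dvd_iff (r := r) Nat.prime_five hr x1 (cen x 5 (by decide +kernel) rfl rfl)
    have hy := fun r hr => dvd_iff (r := r) (by decide : Nat.Prime 7) hr y1 (cen y 7 (by decide +kernel) rfl rfl)
    have hz := fun r hr => dvd_iff (r := r) Nat.prime_three hr z1 (cen z 3 (by decide +kernel) rfl rfl)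
    refine ⟨x, y, z, x1, y1, z1, ?_, ?_, ?_, fun e => ?_, fun e => ?_, fun e => ?_⟩
    · exact Nat.not_even_iff_odd.1 fun e => absurd ((hx 2 Nat.prime_two).1 e.two_dvd) (by decide)
    · exact Nat.not_even_iff_odd.1 fun e => absurd ((hy 2 Nat.prime_two).1 e.two_dvd) (by decide)
    · exact Nat.not_even_iff_odd.1 fun e => absurd ((hz 2 Nat.prime_two).1 e.two_dvd) (by decide)
    · exact absurd ((hy 5 Nat.prime_five).1 (e ▸ (hx 5 Nat.prime_five).2 rfl)) (by decide)
    · exact absurd ((hz 5 Nat.prime_five).1 (e ▸ (hx 5 Nat.prime_five).2 rfl)) (by decide)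
    · exact absurd ((hy 3 Nat.prime_three).1 (e ▸ (hz 3 Nat.prime_three).2 rfl)) (by decide)
  · have := Fact.mk Nat.prime_two
    let u : alternatingGroup (Fin 7) := ⟨x4, Equiv.Perm.mem_alternatingGroup.2 (by decide +kernel)⟩
    let a : alternatingGroup (Fin 7) := ⟨x2, Equiv.Perm.mem_alternatingGroup.2 (by decide +kernel)⟩
    have p : ∀ (g : alternatingGroup (Fin 7)) (k : ℕ), g ^ 2 ^ k = 1 → IsPGroup 2 (zpowers g) := fun g k hk => by
      obtain ⟨n, -, hn⟩ := (Nat.dvd_prime_pow Nat.prime_two).1 (orderOf_dvd_of_pow_eq_one hk)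
      exact IsPGroup.of_card (by rw [Nat.card_zpowers, hn])
    have hn : zpowers a ≤ normalizer (zpowers u : Set (alternatingGroup (Fin 7))) :=
      zpowers_le.2 (mem_normalizer_fintype (by
        rintro _ ⟨k, rfl⟩
        have e : a * u * a⁻¹ = u⁻¹ := by decide +kernel
        change a * u ^ k * a⁻¹ ∈ zpowers u
        rw [← conj_zpow, e]
        exact zpow_mem (inv_mem (mem_zpowers u)) k))
    have := h _ ((p a 1 (by decide +kernel)).to_sup_of_normal_right' (p u 2 (by decide +kernel)) hn)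
      (mem_sup_left (mem_zpowers a)) u (mem_sup_right (mem_zpowers u))
    exact absurd this (by decide +kernel)

end CL.Rk4
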