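/-
Simple groups of conjugate type rank four (S3193): the core lemma.
-/
import Cfsg.Agent.Rk4.Defs
import Cfsg.Agent.Odd.FT

set_option autoImplicit false

universe u

namespace CL.Rk4

open Subgroup Cfsg CL.Grp CL.Fgs CL.Cit
open scoped MatrixGroups

theorem jCore : JCore.{u} := by
  intro hDir hDich hPQ G _ _ c h
  have : Fact (Nat.Prime 2) := ⟨Nat.prime_two⟩
  have hev : 2 ∣ Nat.card G := by
    by_contra k
    exact h.nas.not_solvable (CL.Odd.feit_thompson (Nat.odd_iff.2 (by omega)))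
  obtain ⟨S⟩ : Nonempty (Sylow 2 G) := inferInstance
  obtain ⟨t, -, ht, hSt⟩ := ito_exists_central S.2 (ito_sylow_ne_bot hev S)
  have hto : ¬ 2 ∣ cs(t) := not_dvd_cs_iff.2 ⟨S, hSt⟩
  rcases hDich G c h t ht with d | ⟨-, k, -, hc⟩
  · exact Or.inl ⟨t, S, ht, hSt, (hDir G _ d).2.2 S hSt⟩
  right
  by_cases hs : ∃ s : G, IsPiElt {2} s ∧ s ≠ 1 ∧ cs(s) = c
  swap
  · push Not at hs
    refine Or.inr ⟨fun P => ⟨⟨fun a b => Subtype.ext (ito_comm_of_two (fun u v hu hv u1 v1 hle => ?_) P.2 a a.2 b b.2)⟩⟩,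
      fun v hv => (hDich G c h v hv).elim (fun d => (hDir G _ d).2.1) fun d => d.1⟩
    exact cent_eq_of_le_of_cs_le hle ((h.low v u hv v1 u1 (cs_dvd_of_le hle)).resolve_right (hs u hu u1)).le
  obtain ⟨s, hs2, hs1, hsc⟩ := hs
  refine Or.inl fun v hv => ?_
  rcases hDich G c h v hv with d | ⟨hsol, j, hj, hc'⟩
  · exact (hDir G _ d).1
  obtain ⟨t2, t1⟩ := ito_piElt_of_orderOf Nat.prime_two ht
  obtain ⟨-, v1⟩ := ito_piElt_of_orderOf Nat.prime_two hv
  have hv0 := cs_pos v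
  have h1 : cs(t) ∣ cs(v) :=
    (((Nat.Prime.coprime_iff_not_dvd Nat.prime_two).2 hto).symm.pow_right j).dvd_of_dvd_mul_left
      (hc' ▸ hc ▸ Dvd.intro_left _ rfl)
  have h2 : cs(v) = cs(t) := (h.low t v t2 t1 v1 h1).resolve_right fun e => by
    have : 2 ^ 1 ≤ 2 ^ j := Nat.pow_le_pow_right two_pos hj
    rw [← e] at hc'
    nlinarith
  obtain ⟨P, hP⟩ := not_dvd_cs_iff.1 (h2 ▸ hto : ¬ 2 ∣ cs(v))
  obtain ⟨g, hg⟩ := hs2.exists_conj_mem_sylow P
  have hs2' := hs2.conj g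
  have hs1' : g * s * g⁻¹ ≠ 1 := by simpa using hs1
  have hsc' : cs(g * s * g⁻¹) = c := (cs_conj g s).trans hsc
  generalize g * s * g⁻¹ = r at hg hs2' hs1' hsc'
  have hc0 : 0 < c := hsc' ▸ cs_pos r
  have key : ∀ w ∈ cent(r), IsPiElt {2}ᶜ w → (cent(w)).relIndex cent(r) = 1 := by
    intro w hw hw'
    have hcm : Commute r w := mem_cent'.1 hw
    have ho := hs2'.coprime hw'
    have e1 := cs_mul_of_coprime' hcm ho
    have e2 : cs(r * w) = c :=
      (h.low r (r * w) hs2' hs1' (mul_ne_one_of_coprime hs1' hcm ho) (cs_dvd_cs_mul_of_coprime hcm ho)).elim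
        (fun e => e.trans hsc') id
    rw [e2, hsc'] at e1
    exact Nat.eq_of_mul_eq_mul_right hc0 (by rw [← e1, one_mul])
  obtain ⟨-, A, -, hA, -⟩ := exists_direct_in (p := 2) (C := cent(r)) fun y hy hy' => by
    rw [key y hy hy']; norm_num
  have hle : ∀ w ∈ A, cent(r) ≤ cent(w) := fun w hw =>
    relIndex_eq_one.1 (key w ((hA w).1 hw).1 ((hA w).1 hw).2)
  have hAD : A ≤ cent(v) := fun w hw => mem_cent_comm.1 (hle w hw (mem_cent_comm.1 (hP hg)))
  have hAr : A ≤ cent(r) := fun w hw => ((hA w).1 hw).1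
  have hi : ∃ i, A.relIndex cent(r) = 2 ^ i := by
    refine ⟨_, Nat.eq_prime_pow_of_unique_prime_dvd index_ne_zero_of_finite fun {q} hq hd => ?_⟩
    by_contra hq2
    have := Fact.mk hq
    obtain ⟨Q, hQ⟩ := exists_isSylowIn q cent(r)
    exact hQ.not_dvd_relIndex_of_le
      (fun x hx => (hA x).2 ⟨hQ.le hx, ito_ne hq2 (isPiElt_singleton_of_mem hQ.isPGroup hx)⟩) hAr hd
  obtain ⟨i, hi⟩ := hi
  refine hPQ G cent(v) A r hsol (hP hg) hs2' hAD
    (Nat.coprime_two_right.1 (coprime_card_of_forall_isPiElt fun x hx => ((hA x).1 hx).2)) ⟨i + j, ?_⟩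
    fun x hx w hw => (mem_cent.1 (hle w hw hx.1)).symm
  have e1 := relIndex_mul_index hAr
  have e2 := relIndex_mul_index hAD
  rw [hi, hsc', hc', ← e2] at e1
  exact Nat.eq_of_mul_eq_mul_right hv0 (by rw [← e1, pow_add, mul_assoc])

end CL.Rk4
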