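/-
Simple groups of conjugate type rank four (S3193): the dichotomy for involution centralizers.
-/
import Cfsg.Agent.Rk4.Defs

set_option autoImplicit false

universe u

namespace CL.Rk4

open Subgroup Cfsg CL.Grp CL.Fgs CL.Cit
open scoped MatrixGroups

theorem jDich : JDich.{u} := by
  intro G _ _ c h v hv
  refine or_iff_not_imp_left.2 fun hD => ?_
  obtain ⟨u, hu, hu2, hk⟩ : ∃ u ∈ cent(v), IsPiElt {2}ᶜ u ∧ 2 ∣ (cent(u)).relIndex cent(v) := by
    by_contra hc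
    exact hD fun u hu hu2 e => hc ⟨u, hu, hu2, e⟩
  obtain ⟨hv2, hv1⟩ := ito_piElt_of_orderOf Nat.prime_two hv
  have hpos : 0 < cs(v) := (h.nas.one_lt_cs hv1).le
  have ha : ∀ z w : G, z ≠ 1 → cent(z) = cent(v) → w ∈ cent(v) → (orderOf z).Coprime (orderOf w) →
      (cent(w)).relIndex cent(v) = 1 ∨ (cent(w)).relIndex cent(v) * cs(v) = c := fun z w hz e hw hc => by
    have h1 : Commute z w := mem_cent'.1 (e ▸ hw)
    have h2 := cs_mul_of_coprime' h1 hc
    rw [e] at h2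
    rcases h.low v (z * w) hv2 hv1 (mul_ne_one_of_coprime hz h1 hc) (h2 ▸ Dvd.intro_left _ rfl) with h3 | h3
    · exact Or.inl (Nat.eq_of_mul_eq_mul_right hpos (by rw [← h2, h3, one_mul]))
    · exact Or.inr (h2 ▸ h3)
  have hk1 : (cent(u)).relIndex cent(v) ≠ 1 := fun e => by rw [e] at hk; exact absurd hk (by norm_num)
  have hc := (ha v u hv1 rfl hu (hv2.coprime hu2)).resolve_left hk1
  have hb : ∀ z w : G, z ≠ 1 → cent(z) = cent(v) → w ∈ cent(v) → (orderOf z).Coprime (orderOf w) →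
      cent(v) ≤ cent(w) ∨ (cent(w)).relIndex cent(v) = (cent(u)).relIndex cent(v) := fun z w hz e hw hzw =>
    (ha z w hz e hw hzw).imp relIndex_eq_one.1 fun e1 => Nat.eq_of_mul_eq_mul_right hpos (e1.trans hc.symm)
  have h2 : ∀ w ∈ cent(v), IsPiElt {2}ᶜ w →
      cent(v) ≤ cent(w) ∨ (cent(w)).relIndex cent(v) = (cent(u)).relIndex cent(v) := fun w hw hw2 =>
    hb v w hv1 rfl hw (hv2.coprime hw2)
  have hvc : cs(v) ≠ c := fun e => hk1 (Nat.eq_of_mul_eq_mul_right hpos (by rw [hc, ← e, one_mul]))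
  refine ⟨(abf_in h2).1, ?_⟩
  have hq : ∀ {q : ℕ}, q.Prime → q ∣ (cent(u)).relIndex cent(v) → q = 2 := fun {q} hq hd => by
    by_contra hq2
    have := Fact.mk hq
    obtain ⟨Q, hQ, -⟩ := exists_isSylowIn_ge (IsPGroup.of_bot (p := q)) (bot_le (a := cent(v)))
    have hQ1 : Q ≠ ⊥ := fun e => hQ.2.2 (by
      rw [e, relIndex_bot_left]
      exact hd.trans (relIndex_dvd_card _ _))
    obtain ⟨z, hz, hz1, hz2⟩ := ito_exists_central hQ.isPGroup hQ1
    obtain ⟨hz3, hz4⟩ := ito_piElt_of_orderOf hq hz1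
    have h3 : cent(v) ≤ cent(z) := (h2 z (hQ.1 hz) (ito_ne hq2 hz3)).resolve_right fun e =>
      hQ.2.2 ((e ▸ hd).trans (relIndex_dvd_of_le_left _ hz2))
    have h4 : cent(z) = cent(v) :=
      (cent_eq_of_le_of_cs_le h3 (h.head v z hv hvc hz4 (cs_dvd_of_le h3)).ge).symm
    obtain ⟨l, -, hl⟩ := ito_nil_in Nat.prime_two (Ne.symm hq2) h2 fun w hw hwq => hb z w hz4 h4 hw (hz3.coprime hwq)
    by_cases e : l = 2
    · exact hk1 (relIndex_eq_one.2 (ito_le_cent_of_primary (fun r w hr hr2 => hl r w hr (e ▸ hr2)) hu hu2))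
    · obtain ⟨T, hT, -⟩ := exists_isSylowIn_ge (IsPGroup.of_bot (p := 2)) (bot_le (a := cent(v)))
      refine hT.2.2 (hk.trans (relIndex_dvd_of_le_left _ fun t ht => mem_cent_comm.1 ?_))
      obtain ⟨k, hk'⟩ := hT.isPGroup.exists_card_eq
      refine hl 2 t Nat.prime_two (Ne.symm e) (hT.1 ht) (fun r hr hd' => ?_) hu
      exact (Nat.prime_dvd_prime_iff_eq hr Nat.prime_two).1
        (hr.dvd_of_dvd_pow (hk' ▸ hd'.trans (Subgroup.orderOf_dvd_natCard _ ht)))
  have h0 : (cent(u)).relIndex cent(v) ≠ 0 := index_ne_zero_of_finite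
  have h5 := Nat.eq_prime_pow_of_unique_prime_dvd h0 hq
  generalize (Nat.primeFactorsList ((cent(u)).relIndex cent(v))).length = k at h5
  exact ⟨k, Nat.one_le_iff_ne_zero.2 fun e => hk1 (by rw [h5, e, pow_zero]), by rw [← h5, hc]⟩

end CL.Rk4
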