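/-
Simple groups of conjugate type rank four: the direct decomposition.
-/
import Cfsg.Agent.Rk4.Defs
import Cfsg.Agent.Odd.FT

set_option autoImplicit false

universe u

namespace CL.Rk4

open Subgroup Cfsg CL.Grp CL.Fgs CL.Cit
open scoped MatrixGroups

theorem jDir : JDir.{u} := by
  intro G _ _ D hD
  have : Fact (Nat.Prime 2) := ⟨Nat.prime_two⟩
  obtain ⟨P, K, hP, hK, -⟩ := exists_direct_in (p := 2) hD
  have pP : IsPGroup 2 P := fun x => by
    obtain ⟨k, hk⟩ := (isPiElt_singleton_iff Nat.prime_two).1 ((hP x).1 x.2).2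
    exact ⟨k, Subtype.ext (by rw [coe_pow, ← hk, pow_orderOf_eq_one]; rfl)⟩
  have nP : (P.subgroupOf D).Normal := ⟨fun x hx g => (hP _).2 ⟨(g * x * g⁻¹).2, ((hP _).1 hx).2.conj _⟩⟩
  have nK : (K.subgroupOf D).Normal := ⟨fun x hx g => (hK _).2 ⟨(g * x * g⁻¹).2, ((hK _).1 hx).2.conj _⟩⟩
  obtain ⟨T, hT⟩ := (pP.comap_subtype (K := D)).exists_le_sylow
  have hc : (K.subgroupOf D).IsComplement' (T : Subgroup D) := by
    refine isComplement'_of_disjoint_and_mul_eq_univ (disjoint_def.2 fun {x} h1 h2 => ?_) (Set.eq_univ_of_forall fun g => ?_)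
    · exact (isPiElt_singleton_of_mem T.isPGroup' h2).eq_one (isPiElt_coe_iff.1 ((hK _).1 h1).2)
    · exact ⟨_, (hK _).2 ⟨Subtype.property _, isPiElt_coe_iff.2 (isPiElt_piPart _ g)⟩, _,
        hT ((hP _).2 ⟨Subtype.property _, isPiElt_coe_iff.2 (isPiElt_piPart _ g)⟩), piPart_compl_mul_piPart {2} g⟩
  refine ⟨⟨T, _, nK, hc⟩, ?_, fun S hS => ?_⟩
  · have h1 : Group.IsSolvable (K.subgroupOf D) := CL.Odd.feit_thompson (Nat.not_even_iff_odd.1 fun h =>
      (isPiNum_compl_singleton_iff Nat.prime_two).1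
        (isPiNum_card_of_forall fun x hx => isPiElt_coe_iff.1 ((hK _).1 hx).2) h.two_dvd)
    have h2 : IsPGroup 2 (D ⧸ K.subgroupOf D) := T.isPGroup'.of_equiv hc.symm.QuotientMulEquiv.symm
    have := h2.isNilpotent
    exact Group.isSolvable_of_ker_le_range (K.subgroupOf D).subtype (QuotientGroup.mk' (K.subgroupOf D)) (by simp)
  · rwa [← S.is_maximal' pP fun x hx => (hP x).2 ⟨hS hx, isPiElt_singleton_of_mem S.isPGroup' hx⟩]

end CL.Rk4
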