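/-
Simple groups of conjugate type rank four (S3193): the elements of class size `n₁` are isolated.
-/
import Cfsg.Agent.Rk4.Defs

set_option autoImplicit false

universe u

namespace CL.Rk4

open Subgroup Cfsg CL.Grp CL.Fgs CL.Cit
open scoped MatrixGroups commutatorElement

theorem jIsol : JIsol.{u} := by
  intro G _ _ n₁ n₂ a b h z hz
  have pos : 0 < n₁ * n₂ := h.card ▸ Nat.card_pos
  have p1 : 0 < n₁ := Nat.pos_of_mul_pos_right pos
  have p2 : 0 < n₂ := Nat.pos_of_mul_pos_left pos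
  have c1 : ∀ x : G, n₁ ∣ cs(x) → Nat.card cent(x) ∣ n₂ := fun x ⟨k, hk⟩ => ⟨k, Nat.eq_of_mul_eq_mul_left p1 (by
    rw [← h.card, ← card_cent_mul_cs x, hk]; ring)⟩
  have fact : ∀ g t : G, g ≠ 1 → t ≠ 1 → orderOf t ∣ n₁ → t ∈ cent(g) → cs(g) = n₂ := fun g t g1 t1 ht m => by
    have k : ¬ n₁ ∣ cs(g) := fun k => t1 (orderOf_eq_one_iff.1
      (Nat.eq_one_of_dvd_coprimes h.cop ht ((Subgroup.orderOf_dvd_natCard _ m).trans (c1 g k))))
    rcases h.four g g1 with e | e | e | e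
    exacts [(k e.symm.dvd).elim, e, (k (e ▸ h.da)).elim, (k (e ▸ h.db)).elim]
  obtain ⟨y, hs, hy⟩ := h.exp₂
  obtain ⟨ys, y1⟩ := ito_piElt_of_orderOf hs rfl
  have cB : Nat.card cent(y) = n₁ := Nat.eq_of_mul_eq_mul_right p2 (by rw [← h.card, ← card_cent_mul_cs y, hy])
  have oB : ∀ w ∈ cent(y), orderOf w ∣ n₁ := fun w hw => cB ▸ Subgroup.orderOf_dvd_natCard _ hw
  have eqB : ∀ g ∈ cent(y), g ≠ 1 → cent(y) ≤ cent(g) → cent(g) = cent(y) := fun g hg g1 k =>
    (cent_eq_of_le_of_cs_le k (hy.trans (fact g g g1 g1 (oB g hg) (self_mem_cent g)).symm).le).symm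
  have cen : ∀ t, t ≠ 1 → cent(t) = cent(y) → ∀ w ∈ cent(y), (orderOf t).Coprime (orderOf w) → cent(y) ≤ cent(w) :=
    fun t t1 e w hw co => by
      have c : Commute t w := mem_cent'.1 (e.ge hw)
      have k := fact _ t (mul_ne_one_of_coprime t1 c co) t1 (oB t (e.le (self_mem_cent t)))
        (mem_cent.2 ((Commute.refl t).mul_right c))
      rw [cs_mul_of_coprime' c co, e, hy] at k
      exact relIndex_eq_one.1 (Nat.eq_of_mul_eq_mul_right p2 (k.trans (one_mul _).symm))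
  obtain ⟨p, hp, ps, pn⟩ := h.two₁ (orderOf y)
  obtain ⟨t, ht, tp, t1⟩ := ito_exists_elt hp (cB ▸ pn : p ∣ Nat.card cent(y))
  have et := eqB t ht t1 (cen y y1 rfl t ht (ito_coprime ps.symm ys tp))
  have hH : ∀ g ∈ cent(y), g ≠ 1 → cent(g) = cent(y) := fun g hg g1 => eqB g hg g1
    (ito_le_cent_of_primary (π := Set.univ) (fun q w _ _ hw wq => (em (q = p)).elim
      (fun e => cen y y1 rfl w hw (ito_coprime ps.symm ys (e ▸ wq)))
      fun e => cen t t1 et w hw (ito_coprime (Ne.symm e) tp wq)) hg (isPiElt_univ g))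
  refine (ito_char hH (fun e => y1 (mem_bot.1 (e ▸ self_mem_cent y))) (hz.trans cB.symm) fun g w hw k => ?_).elim id
    fun k => ?_
  · refine orderOf_eq_one_iff.1 (Nat.eq_one_of_dvd_coprimes h.cop (oB w hw) ?_)
    have := (Subgroup.orderOf_dvd_natCard _ k).trans (c1 z hz.symm.dvd)
    rwa [show g⁻¹ * w * g = g⁻¹ * w * g⁻¹⁻¹ by rw [inv_inv], orderOf_conj'] at this
  · intro g _
    have := h.nas.1
    rcases (cent(z)).normalCore_normal.eq_bot_or_eq_top with e | e
    · have : ⁅z, g⁆ ∈ (cent(z)).normalCore := fun w => by simpa using k g w⁻¹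
      rw [e, mem_bot, commutatorElement_eq_one_iff_mul_comm] at this
      rw [← this, mul_inv_cancel_right]
    · rw [(mem_cent.1 ((cent(z)).normalCore_le (e.ge (mem_top g)))).eq, mul_inv_cancel_right]

end CL.Rk4
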