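/-
Simple groups of conjugate type rank four (S3193): first consequences of two minimal class sizes.
-/
import Cfsg.Agent.Rk4.Defs
import Cfsg.Agent.Char.Burnside

set_option autoImplicit false

universe u

namespace CL.Rk4

open Subgroup Cfsg CL.Grp CL.Fgs CL.Cit

namespace K2Px

variable {G : Type u} [Group G] [Finite G] {n₁ n₂ a b : ℕ} (h : K2 G n₁ n₂ a b)
include h

theorem one_lt : 1 < n₁ := by
  obtain ⟨x, hx, rfl⟩ := h.ex₁
  exact h.nas.one_lt_cs hx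

theorem ne_one {x : G} (hx : cs(x) = n₁) : x ≠ 1 := by
  rintro rfl
  have := one_lt h
  rw [cs_one] at hx
  omega

theorem cop : n₁.Coprime n₂ := by
  refine Nat.coprime_of_dvd fun p hp h1 h2 => ?_
  haveI := Fact.mk hp
  obtain ⟨x, -, hx⟩ := h.ex₁
  obtain ⟨P⟩ : Nonempty (Sylow p G) := inferInstance
  obtain ⟨z, -, hz, hP⟩ := ito_exists_central P.isPGroup'
    (ito_sylow_ne_bot (h1.trans (hx ▸ cs_dvd_card x)) P)
  have hz1 : z ≠ 1 := fun e => hp.one_lt.ne' (by rw [← hz, e, orderOf_one])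
  exact not_dvd_cs_iff.2 ⟨P, hP⟩ ((h.below z hz1).elim h1.trans h2.trans)

theorem two (l : ℕ) : ∃ p : ℕ, p.Prime ∧ p ≠ l ∧ p ∣ n₁ := by
  by_contra hc
  have hc' : ∀ p : ℕ, p.Prime → p ∣ n₁ → p = l := fun p hp hd => by_contra fun e => hc ⟨p, hp, e, hd⟩
  have h1 := one_lt h
  have hm := Nat.minFac_prime h1.ne'
  have hl : l.Prime := hc' _ hm (Nat.minFac_dvd _) ▸ hm
  have e := Nat.eq_prime_pow_of_unique_prime_dvd (n := n₁) (p := l) (by omega) fun {d} hd hd' => hc' d hd hd'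
  obtain ⟨x, hx, hx'⟩ := h.ex₁
  haveI := h.nas.1
  haveI := Fact.mk (CL.Char.prime_card_of_index_eq_prime_pow hl hx (hx'.trans e))
  haveI : IsCyclic G := isCyclic_of_prime_card (p := Nat.card G) rfl
  exact h.nas.2 inferInstance

theorem ncomm (x y : G) (hx : cs(x) = n₁) (hy : cs(y) = n₂) : ¬ Commute x y := fun hc => by
  have h1 := normalClosure_le_of_coprime (H := cent(y)) (mem_cent.2 hc) (by rw [hx, hy]; exact (cop h).symm)
  rcases h.nas.1.eq_bot_or_eq_top_of_normal (normalClosure ({x} : Set G)) inferInstance with e | e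
  · have : x ∈ normalClosure ({x} : Set G) := subset_normalClosure rfl
    rw [e] at this
    exact ne_one h hx this
  · rw [e, top_le_iff, cent_eq_top_iff] at h1
    exact h.nas.not_mem_center (ne_one h.symm hy) h1

theorem pw {x : G} {r : ℕ} (hx : cs(x) = n₁) (hr : r.Prime) (hd : r ∣ orderOf x) :
    ∃ y : G, orderOf y = r ∧ cs(y) = n₁ := by
  have ho := orderOf_pow_orderOf_div (orderOf_pos x).ne' hd
  exact ⟨_, ho, h.head₁ _ (fun e => hr.one_lt.ne' (by rw [← ho, e, orderOf_one]))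
    (hx ▸ cs_dvd_of_le (cent_le_pow x _))⟩

theorem ord (x : G) (r : ℕ) (hx : cs(x) = n₁) (hr : r.Prime) (hd : r ∣ orderOf x) : r ∣ n₂ := by
  obtain ⟨x', ho, hx'⟩ := pw h hx hr hd
  obtain ⟨y, -, hy⟩ := h.ex₂
  by_contra hn
  exact ncomm h x' y hx' hy (commute_of_coprime_cs (by rw [hx', hy]; exact cop h)
    (by rw [ho, hy]; exact (Nat.Prime.coprime_iff_not_dvd hr).2 hn))

theorem exp : ∃ x : G, (orderOf x).Prime ∧ cs(x) = n₁ := by
  obtain ⟨x, hx, hx'⟩ := h.ex₁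
  have hm := Nat.minFac_prime (mt orderOf_eq_one_iff.1 hx)
  obtain ⟨y, ho, hy⟩ := pw h hx' hm (Nat.minFac_dvd _)
  exact ⟨y, ho ▸ hm, hy⟩

theorem ch (hG : Nat.card G = n₁ * n₂) (h2 : 2 ∣ n₂) (hb : ¬ n₁ ∣ b) : CH G a := by
  have f1 : ∀ z : G, z ≠ 1 → 2 ∣ orderOf z → n₁ ∣ cs(z) := fun z hz hd => by
    refine (h.below z hz).resolve_right fun ⟨k, hk⟩ => ?_
    have e := card_cent_mul_cs z
    rw [hG, hk, mul_comm n₂ k, ← mul_assoc] at e
    have e' := Nat.eq_of_mul_eq_mul_right (by have := one_lt h.symm; omega) e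
    have h3 : 2 ∣ n₁ := e' ▸ (hd.trans (orderOf_dvd_card_cent z)).mul_right k
    exact absurd (Nat.eq_one_of_dvd_coprimes (cop h) h3 h2) (by norm_num)
  have f2 : ∀ x : G, x ≠ 1 → n₁ ∣ cs(x) → cs(x) = n₁ ∨ cs(x) = a := fun x hx hd => by
    rcases h.four x hx with e | e | e | e
    · exact .inl e
    · exact absurd (Nat.eq_one_of_dvd_coprimes (cop h) dvd_rfl (e ▸ hd)) (one_lt h).ne'
    · exact .inr e
    · exact absurd (e ▸ hd) hb
  refine ⟨h.nas, fun v x hv hc hx hd => ?_, fun s x hs hs1 hx hd => ?_⟩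
  · have hv1 : v ≠ 1 := fun e => by rw [e, orderOf_one] at hv; omega
    have e := (f2 v hv1 (f1 v hv1 hv.symm.dvd)).resolve_right hc
    rw [e] at hd ⊢
    exact h.head₁ x hx hd
  · have hm := Nat.minFac_prime (mt orderOf_eq_one_iff.1 hs1)
    have h3 : (orderOf s).minFac = 2 := hs _ hm (Nat.minFac_dvd _)
    refine (f2 x hx ((f1 s hs1 (h3 ▸ Nat.minFac_dvd _)).trans hd)).imp_left fun e => ?_
    rw [e] at hd ⊢
    exact (h.head₁ s hs1 hd).symm

end K2Px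

theorem jK2P : JK2P.{u} := fun _ _ _ _ _ _ _ h =>
  ⟨h, K2Px.cop h, K2Px.two h, K2Px.two h.symm, K2Px.ncomm h, K2Px.ord h, K2Px.ord h.symm, K2Px.exp h,
    K2Px.exp h.symm⟩

theorem jSplit : JSplit.{u} := by
  intro G _ _ n₁ n₂ a b h hG h2
  by_cases hb : n₁ ∣ b
  · by_cases ha : n₁ ∣ a
    · exact .inr ⟨h, hG, h2, ha, hb⟩
    · exact .inl ⟨b, K2Px.ch h.toK2.swap hG h2 ha⟩
  · exact .inl ⟨a, K2Px.ch h.toK2 hG h2 hb⟩

end CL.Rk4
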