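/-
Project RK4: the groups `PSL₃(2ⁿ)`, `n ≥ 2`, have three odd centralizer orders and non-abelian Sylow 2-subgroups.
-/
import Cfsg.Agent.Rk4.Defs
import Cfsg.Agent.S2476

set_option autoImplicit false

universe u

namespace CL.Rk4

open Subgroup Cfsg CL.Grp CL.Fgs CL.Cit
open scoped MatrixGroups

namespace L3a

theorem exists_prime (k : ℕ) (hk : 1 ≤ k) : ∃ r : ℕ, r.Prime ∧ r ≠ 3 ∧ r ∣ k ^ 2 + 3 * k + 3 := by
  by_contra h
  have h1 := Nat.eq_prime_pow_of_unique_prime_dvd (n := k ^ 2 + 3 * k + 3) (p := 3) (by omega)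
    fun {d} hd hdv => by_contra fun e => h ⟨d, hd, e, hdv⟩
  generalize (k ^ 2 + 3 * k + 3).primeFactorsList.length = j at h1
  have h9 : 9 ∣ k ^ 2 + 3 * k + 3 := by
    rcases j with _ | _ | j
    · omega
    · omega
    · exact ⟨3 ^ j, by rw [h1]; ring⟩
  have h3 : 3 ∣ k := Nat.prime_three.dvd_of_dvd_pow (n := 2) (by omega)
  obtain ⟨m, rfl⟩ := h3
  have : (3 * m) ^ 2 = 9 * m ^ 2 := by ring
  omega

theorem odd3_of {G : Type*} [Group G] [Finite G] {k : ℕ} (hk : Odd k)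
    (sp : ∀ g : G, orderOf g ∣ k ^ 2 + 3 * k + 3 ∨ orderOf g ∣ k * (k + 2) ∨ orderOf g ∣ 2 * k ∨ orderOf g ∣ 4)
    (ex1 : ∀ r : ℕ, r.Prime → r ≠ 3 → r ∣ k ^ 2 + 3 * k + 3 → ∃ x : G, orderOf x = r)
    (ex2 : ∀ r : ℕ, r ∣ k + 2 → ∃ y : G, orderOf y = r)
    (z : G) (hz : ∀ r : ℕ, r.Prime → r ∣ Nat.card cent(z) → r ∣ k) : Odd3 G := by
  obtain ⟨r, hr, r3, hrN⟩ := exists_prime k hk.pos
  obtain ⟨s, hs, hsN⟩ := Nat.exists_prime_and_dvd (show k + 2 ≠ 1 by omega)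
  obtain ⟨x, hx⟩ := ex1 r hr r3 hrN
  obtain ⟨y, hy⟩ := ex2 s hsN
  have k2 : ¬ 2 ∣ k := hk.not_two_dvd_nat
  have e1 : k ^ 2 + 3 * k + 3 = (k + 2) * (k + 1) + 1 := by ring
  have N2 : ¬ 2 ∣ k ^ 2 + 3 * k + 3 := by
    obtain ⟨m, rfl⟩ := hk
    have : (2 * m + 1) ^ 2 = 2 * (2 * m ^ 2 + 2 * m) + 1 := by ring
    omega
  have M2 : ¬ 2 ∣ k * (k + 2) := fun h => (Nat.prime_two.dvd_mul.1 h).elim k2 (by omega)
  have r2 : ¬ r ∣ 2 := fun h => N2 (((Nat.prime_dvd_prime_iff_eq hr Nat.prime_two).1 h) ▸ hrN)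
  have s2 : ¬ s ∣ 2 := fun h =>
    M2 (((Nat.prime_dvd_prime_iff_eq hs Nat.prime_two).1 h ▸ hsN : 2 ∣ k + 2).mul_left k)
  have r4 : ¬ r ∣ 4 := fun h => r2 (hr.dvd_of_dvd_pow (n := 2) h)
  have s4 : ¬ s ∣ 4 := fun h => s2 (hs.dvd_of_dvd_pow (n := 2) h)
  have rk : ¬ r ∣ k := fun h => r3 ((Nat.prime_dvd_prime_iff_eq hr Nat.prime_three).1
    ((Nat.dvd_add_right (dvd_add (dvd_pow h two_ne_zero) (h.mul_left 3))).1 hrN))
  have rk2 : ¬ r ∣ k + 2 := fun h => hr.one_lt.ne' (Nat.dvd_one.1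
    ((Nat.dvd_add_right (h.mul_right (k + 1))).1 (e1 ▸ hrN)))
  have sk : ¬ s ∣ k := fun h => s2 ((Nat.dvd_add_right h).1 hsN)
  have sN : ¬ s ∣ k ^ 2 + 3 * k + 3 := fun h => hs.one_lt.ne' (Nat.dvd_one.1
    ((Nat.dvd_add_right (hsN.mul_right (k + 1))).1 (e1 ▸ h)))
  have rM : ¬ r ∣ k * (k + 2) := fun h => (hr.dvd_mul.1 h).elim rk rk2
  have r2k : ¬ r ∣ 2 * k := fun h => (hr.dvd_mul.1 h).elim r2 rk
  have s2k : ¬ s ∣ 2 * k := fun h => (hs.dvd_mul.1 h).elim s2 sk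
  have ox : ¬ 2 ∣ Nat.card cent(x) := fun h => by
    obtain ⟨g, hg⟩ := exists_orderOf_mul Nat.prime_two h (by
      rw [hx]; exact fun h => N2 (h.trans hrN))
    have := sp g
    rw [hg, hx] at this
    rcases this with h | h | h | h
    exacts [N2 (dvd_of_mul_right_dvd h), rM (dvd_of_mul_left_dvd h), r2k (dvd_of_mul_left_dvd h),
      r4 (dvd_of_mul_left_dvd h)]
  have oy : ¬ 2 ∣ Nat.card cent(y) := fun h => by
    obtain ⟨g, hg⟩ := exists_orderOf_mul Nat.prime_two h (by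
      rw [hy]; exact fun h => M2 ((h.trans hsN).mul_left k))
    have := sp g
    rw [hg, hy] at this
    rcases this with h | h | h | h
    exacts [N2 (dvd_of_mul_right_dvd h), M2 (dvd_of_mul_right_dvd h), s2k (dvd_of_mul_left_dvd h),
      s4 (dvd_of_mul_left_dvd h)]
  have ry : ¬ r ∣ Nat.card cent(y) := fun h => by
    obtain ⟨g, hg⟩ := exists_orderOf_mul hr h (by rw [hy]; exact fun h => rk2 (h.trans hsN))
    have := sp g
    rw [hg, hy] at this
    rcases this with h | h | h | h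
    exacts [sN (dvd_of_mul_left_dvd h), rM (dvd_of_mul_right_dvd h), r2k (dvd_of_mul_right_dvd h),
      r4 (dvd_of_mul_right_dvd h)]
  have rx : r ∣ Nat.card cent(x) := hx ▸ orderOf_dvd_card_cent x
  have sy : s ∣ Nat.card cent(y) := hy ▸ orderOf_dvd_card_cent y
  have rz : ¬ r ∣ Nat.card cent(z) := fun h => rk (hz r hr h)
  refine ⟨x, y, z, fun e => hr.one_lt.ne' (by rw [← hx, e, orderOf_one]),
    fun e => hs.one_lt.ne' (by rw [← hy, e, orderOf_one]), fun e => rz ?_, Nat.odd_iff.2 (by omega),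
    Nat.odd_iff.2 (by omega), Nat.odd_iff.2 ?_, fun e => ry (e ▸ rx), fun e => rz (e ▸ rx),
    fun e => sk (hz s hs (e ▸ sy))⟩
  · rw [← hx]
    exact Subgroup.orderOf_dvd_natCard _ (mem_cent.2 (e ▸ Commute.one_right x))
  · have : ¬ 2 ∣ Nat.card cent(z) := fun h => k2 (hz 2 Nat.prime_two h)
    omega

/-- two involutions with product of order dividing four commute when the 2-subgroups are abelian -/
theorem sq_of_abSyl {G : Type*} [Group G] (hab : CL.Abel2.AbSyl G) {a b : G} (ha : a * a = 1) (hb : b * b = 1)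
    (h4 : (a * b) ^ 4 = 1) : (a * b) ^ 2 = 1 := by
  have pz : ∀ x : G, x ^ 4 = 1 → IsPGroup 2 (zpowers x) := fun x hx ⟨_, k, rfl⟩ => ⟨2, Subtype.ext (by
    change (x ^ k) ^ 2 ^ 2 = 1
    rw [← zpow_natCast, ← zpow_mul, mul_comm, zpow_mul, zpow_natCast]
    norm_num [hx])⟩
  have ai : a⁻¹ = a := inv_eq_of_mul_eq_one_right ha
  have bi : b⁻¹ = b := inv_eq_of_mul_eq_one_right hb
  have e : a * (a * b) * a⁻¹ = (a * b)⁻¹ := by rw [← mul_assoc, ha, one_mul, mul_inv_rev, bi]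
  have hn : zpowers a ≤ normalizer (zpowers (a * b) : Set G) := by
    rw [zpowers_le, ← CL.Odd.cj_eq_self_iff, CL.Odd.cj_zpowers, e, zpowers_inv]
  have hP := (pz _ h4).to_sup_of_normal_left' (pz a (by rw [show 4 = 2 + 2 from rfl, pow_add, sq, ha, one_mul])) hn
  have hc := hab.mul_comm' hP (mem_sup_right (mem_zpowers a)) (mem_sup_left (mem_zpowers (a * b)))
  rw [hc, mul_inv_cancel_right] at e
  rw [sq]; nth_rewrite 1 [e]; exact inv_mul_cancel _

variable {F : Type} [Field F]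

/-- a matrix commuting with a diagonal matrix with different entries is diagonal -/
theorem pow_eq_one_of_commute [Fintype F] {z y : SL(3, F)} {d : Fin 3 → F} (hd : Function.Injective d)
    (hz : z.1 = Matrix.diagonal d) (h : Commute y z) : y ^ (Fintype.card F - 1) = 1 := by
  have h1 : y.1 * Matrix.diagonal d = Matrix.diagonal d * y.1 := by
    rw [← hz]; exact congrArg Subtype.val h.eq
  have h2 : y.1 = Matrix.diagonal fun i => y.1 i i := by
    ext i j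
    by_cases e : i = j
    · rw [e, Matrix.diagonal_apply_eq]
    · have h3 := congrFun (congrFun h1 i) j
      rw [Matrix.mul_diagonal, Matrix.diagonal_mul] at h3
      rw [Matrix.diagonal_apply_ne _ e]
      by_contra h0
      exact e (hd (mul_left_cancel₀ h0 (by rw [h3, mul_comm])))
  have h3 := y.2
  rw [h2, Matrix.det_diagonal] at h3
  have h4 : ∀ i, y.1 i i ≠ 0 := fun i h0 =>
    zero_ne_one ((Finset.prod_eq_zero (f := fun i => y.1 i i) (Finset.mem_univ i) h0).symm.trans h3)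
  apply Subtype.ext
  rw [Matrix.SpecialLinearGroup.coe_pow, h2, Matrix.diagonal_pow, Matrix.SpecialLinearGroup.coe_one,
    ← Matrix.diagonal_one]
  congr 1
  funext i
  exact FiniteField.pow_card_sub_one_eq_one _ (h4 i)

theorem exists_z [Fintype F] [CharP F 2] (h : 2 < Fintype.card F) :
    ∃ z : PSL(3, F), ∀ r : ℕ, r.Prime → r ∣ Nat.card cent(z) → r ∣ Fintype.card F - 1 := by
  classical
  obtain ⟨a, -, ha⟩ := Finset.exists_mem_notMem_of_card_lt_card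
    (s := ({0, 1} : Finset F)) (t := Finset.univ) (lt_of_le_of_lt Finset.card_le_two h)
  simp only [Finset.mem_insert, Finset.mem_singleton, not_or] at ha
  have h1 : a⁻¹ ≠ 1 := fun e => ha.2 (inv_eq_one.1 e)
  have h2 : a ≠ a⁻¹ := fun e => by
    have h3 : a * a = 1 := by nth_rewrite 2 [e]; exact mul_inv_cancel₀ ha.1
    rcases mul_self_eq_one_iff.1 h3 with h | h
    · exact ha.2 h
    · exact ha.2 (by rw [h, CharTwo.neg_eq])
  have hd : Function.Injective ![a, a⁻¹, 1] := by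
    intro i j
    fin_cases i <;> fin_cases j <;> simp [ha.2, h1, h2, h2.symm, Ne.symm ha.2, h1.symm]
  obtain ⟨z, hz⟩ : ∃ z : SL(3, F), z.1 = Matrix.diagonal ![a, a⁻¹, 1] :=
    ⟨⟨Matrix.diagonal ![a, a⁻¹, 1], by rw [Matrix.det_diagonal]; simp [Fin.prod_univ_three, ha.1]⟩, rfl⟩
  exact ⟨QuotientGroup.mk z, fun r hr hd' =>
    dvd_of_dvd_card_cent_mk (fun y hy => pow_eq_one_of_commute hd hz hy) hr hd'⟩

theorem not_abSyl [CharP F 2] : ¬ CL.Abel2.AbSyl PSL(3, F) := fun hab => by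
  have h2 : (1 : F) + 1 = 0 := CharTwo.add_self_eq_zero 1
  obtain ⟨a, ea⟩ : ∃ a : SL(3, F), a.1 = !![1, 1, 0; 0, 1, 0; 0, 0, 1] :=
    ⟨⟨_, by simp [Matrix.det_fin_three]⟩, rfl⟩
  obtain ⟨b, eb⟩ : ∃ b : SL(3, F), b.1 = !![1, 0, 0; 0, 1, 1; 0, 0, 1] :=
    ⟨⟨_, by simp [Matrix.det_fin_three]⟩, rfl⟩
  obtain ⟨c, ec⟩ : ∃ c : SL(3, F), c.1 = !![1, 0, 1; 0, 1, 0; 0, 0, 1] :=
    ⟨⟨_, by simp [Matrix.det_fin_three]⟩, rfl⟩
  have ha : a * a = 1 := Subtype.ext (by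
    rw [Matrix.SpecialLinearGroup.coe_mul, Matrix.SpecialLinearGroup.coe_one, ea, Matrix.one_fin_three]; simp [h2])
  have hb : b * b = 1 := Subtype.ext (by
    rw [Matrix.SpecialLinearGroup.coe_mul, Matrix.SpecialLinearGroup.coe_one, eb, Matrix.one_fin_three]; simp [h2])
  have hc : c * c = 1 := Subtype.ext (by
    rw [Matrix.SpecialLinearGroup.coe_mul, Matrix.SpecialLinearGroup.coe_one, ec, Matrix.one_fin_three]; simp [h2])
  have e : a * b * (a * b) = c := Subtype.ext (by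
    rw [Matrix.SpecialLinearGroup.coe_mul, Matrix.SpecialLinearGroup.coe_mul, ea, eb, ec]; simp [h2])
  let f := QuotientGroup.mk' (center SL(3, F))
  have h3 : (f a * f b) ^ 2 = f c := by rw [← map_mul, ← map_pow, sq, e]
  have h4 := sq_of_abSyl hab (a := f a) (b := f b) (by rw [← map_mul, ha, map_one])
    (by rw [← map_mul, hb, map_one])
    (by rw [show 4 = 2 + 2 from rfl, pow_add, h3, ← map_mul, hc, map_one])
  rw [h3] at h4
  obtain ⟨r, -, hr⟩ := Matrix.SpecialLinearGroup.mem_center_iff.1 ((QuotientGroup.eq_one_iff c).1 h4)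
  rw [ec] at hr
  have := congrFun (congrFun hr 0) 2
  simp at this

end L3a

theorem jL3 : JL3 := by
  intro F _ _ n hn hF
  have : CharP F 2 := charP_of_card_eq_prime_pow hF
  have h4 : 4 ≤ Fintype.card F := hF ▸ Nat.pow_le_pow_right two_pos hn
  refine ⟨?_, L3a.not_abSyl⟩
  obtain ⟨z, hz⟩ := L3a.exists_z (F := F) (by omega)
  have sp := Cfsg.Agent.S2476.result (F := F) 2
  have h2 : 2 ∣ Fintype.card F := hF ▸ dvd_pow_self 2 (by omega)
  obtain ⟨k, hk⟩ : ∃ k, Fintype.card F = k + 1 := ⟨Fintype.card F - 1, by omega⟩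
  have e1 : (k + 1) ^ 2 + (k + 1) + 1 = k ^ 2 + 3 * k + 3 := by ring
  have e2 : (k + 1) ^ 2 - 1 = k * (k + 2) := Nat.sub_eq_of_eq_add (by ring)
  rw [hk, Nat.add_sub_cancel, e1, e2] at sp
  rw [hk, Nat.add_sub_cancel] at hz
  have d3 := Nat.gcd_dvd_left 3 k
  have dk := Nat.gcd_dvd_right 3 k
  have dN : Nat.gcd 3 k ∣ k ^ 2 + 3 * k + 3 := dvd_add (dvd_add (dvd_pow dk two_ne_zero) (dk.mul_left 3)) d3
  refine L3a.odd3_of (k := k) (Nat.odd_iff.2 (by omega)) (fun g => ?_) (fun r hr r3 h => ?_) (fun r h => ?_) z hz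
  · rcases (Set.ext_iff.1 sp _).1 ⟨g, rfl⟩ with h | h | h | h | h
    exacts [Or.inl (h.trans (Nat.div_dvd_of_dvd dN)), Or.inr (Or.inl (h.trans (Nat.div_dvd_of_dvd (dk.mul_right _)))),
      Or.inr (Or.inr (Or.inl (h.mul_left 2))),
      Or.inr (Or.inr (Or.inl (h.trans (Nat.div_dvd_of_dvd (dk.mul_left _))))), Or.inr (Or.inr (Or.inr h.2))]
  · refine (Set.ext_iff.1 sp r).2 (Or.inl ((Nat.dvd_div_iff_mul_dvd dN).2 (Nat.Coprime.mul_dvd_of_dvd_of_dvd ?_ dN h)))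
    exact Nat.Coprime.coprime_dvd_left d3 ((Nat.coprime_primes Nat.prime_three hr).2 r3.symm)
  · exact (Set.ext_iff.1 sp r).2 (Or.inr (Or.inl ((Nat.dvd_div_iff_mul_dvd (dk.mul_right _)).2 (mul_dvd_mul dk h))))

end CL.Rk4
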