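/-
Simple groups of conjugate type rank four (S3193): Lemma X.
-/
import Cfsg.Agent.Rk4.Defs

set_option autoImplicit false

universe u

namespace CL.Rk4

open Subgroup Cfsg CL.Grp CL.Fgs CL.Cit

theorem jLX : JLX.{u} := by
  intro G _ _ n₁ n₂ a b h l u x y hl hu u1 hr hs rl sl hx hy ux uy
  have := Fact.mk hl
  have := Fact.mk hs
  have px := (ito_piElt_of_orderOf hr rfl).1
  have py := (ito_piElt_of_orderOf hs rfl).1
  have hxD : x ∈ cent(u) := mem_cent'.2 ux
  have hyD : y ∈ cent(u) := mem_cent'.2 uy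
  have nc := h.ncomm x y hx hy
  have key : ∀ w ∈ cent(u), IsPiElt {l}ᶜ w →
      (cent(w)).relIndex cent(u) * cs(u) = a ∨ (cent(w)).relIndex cent(u) * cs(u) = b := fun w hw pw => by
    have hc := mem_cent'.1 hw
    have ho := hu.coprime pw
    have hd := cs_dvd_cs_mul_of_coprime hc ho
    rw [← cs_mul_of_coprime' hc ho]
    rcases h.four _ (mul_ne_one_of_coprime u1 hc ho) with e | e | e
    · exact absurd uy (h.ncomm u y (h.head₁ u u1 (e ▸ hd)) hy)
    · exact absurd ux.symm (h.ncomm x u hx (h.head₂ u u1 (e ▸ hd)))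
    · exact e
  have h1 : ¬ cent(u) ≤ cent(x) := fun e => nc (mem_cent'.1 (e hyD))
  have h0 := key 1 (one_mem _) (isPiElt_one _)
  rw [relIndex_eq_one.2 fun g _ => mem_cent.2 (Commute.one_right g), one_mul] at h0
  have ne : ∀ {w : G}, ¬ cent(u) ≤ cent(w) → (cent(w)).relIndex cent(u) * cs(u) ≠ cs(u) := fun hw e =>
    hw (relIndex_eq_one.1 (Nat.eq_of_mul_eq_mul_right (cs_pos u) (e.trans (one_mul _).symm)))
  obtain ⟨-, ⟨h2⟩ | ⟨q, -, -, h2⟩⟩ := abf_in (p := l) (k := (cent(x)).relIndex cent(u)) (D := cent(u))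
    fun w hw pw => or_iff_not_imp_left.2 fun h3 => Nat.eq_of_mul_eq_mul_right (cs_pos u) (by
      have := key w hw pw
      have := key x hxD (ito_ne rl px)
      have := ne h3
      have := ne h1
      omega)
  · obtain ⟨j, hj⟩ := h2 x hxD (ito_ne rl px)
    obtain ⟨P, hP⟩ := exists_sylow_le_of_not_dvd_index (p := orderOf y) (H := (cent(x)).subgroupOf cent(u))
      fun hd => sl ((Nat.prime_dvd_prime_iff_eq hs hl).1 (hs.dvd_of_dvd_pow (hd.trans hj.dvd)))
    obtain ⟨g, hg⟩ := (isPiElt_coe_iff.1 (show IsPiElt _ ((⟨y, hyD⟩ : cent(u)) : G) from py)).exists_conj_mem_sylow P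
    exact h.ncomm x _ hx ((cs_conj (g : G) y).trans hy) (mem_cent'.1 (hP hg))
  · by_cases e : orderOf x = q
    · refine nc (mem_cent.1 (h2 _ y hs sl (fun e' => hr.one_lt.ne' ?_) hyD py hxD))
      exact Nat.eq_one_of_dvd_coprimes h.cop ((e'.trans e.symm) ▸ h.ord₂ y _ hy hs dvd_rfl) (h.ord₁ x _ hx hr dvd_rfl)
    · exact h1 (h2 _ x hr rl e hxD px)

end CL.Rk4
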