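/-
S3193, job M1: in the configuration `K2P` the group has order `n₁ * n₂`.
-/
import Cfsg.Agent.Rk4.Defs

set_option autoImplicit false

universe u

namespace CL.Rk4

open Subgroup Cfsg CL.Grp CL.Fgs CL.Cit

namespace M1

variable {G : Type u} [Group G] [Finite G] {n₁ n₂ a b m l : ℕ}

theorem elt (h : K2P G n₁ n₂ a b) (hm : Nat.card G = m * (n₁ * n₂)) (hl : l.Prime) (hlm : l ∣ m)
    {x y : G} (hx : cs(x) = n₁) (hy : cs(y) = n₂) :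
    ∃ u : G, IsPiElt {l} u ∧ u ≠ 1 ∧ Commute u x ∧ Commute u y := by
  have e := (cent(x) ⊓ cent(y)).card_mul_index
  rw [CL.Fgs.index_inf_of_coprime (by rw [hx, hy]; exact h.cop), hx, hy, hm] at e
  have e' := Nat.eq_of_mul_eq_mul_right (Nat.mul_pos (hx ▸ cs_pos x) (hy ▸ cs_pos y)) e
  obtain ⟨u, hu, h1, h2⟩ := ito_exists_elt hl (e' ▸ hlm)
  exact ⟨u, h1, h2, mem_cent.1 hu.1, mem_cent.1 hu.2⟩

theorem A' (h : K2P G n₁ n₂ a b) (hm : Nat.card G = m * (n₁ * n₂)) (hl : l.Prime) (hlm : l ∣ m)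
    {x : G} (hr : (orderOf x).Prime) (hx : cs(x) = n₁) (hxl : l ≠ orderOf x) (hna : ¬ n₁ ∣ a)
    (h2 : n₂ ∣ a) : (∀ z : G, z ≠ 1 → cs(z) ≠ n₁ → n₂ ∣ cs(z)) ∧ orderOf x ∣ m := by
  obtain ⟨y, -, hy⟩ := h.exp₂
  obtain ⟨u, hu, hu1, hux, huy⟩ := elt h hm hl hlm hx hy
  have u1 : cs(u) ≠ n₁ := fun e => h.ncomm u y e hy huy
  have u2 : cs(u) ≠ n₂ := fun e => h.ncomm x u hx e hux.symm
  have ho := ito_coprime hxl hu (ito_piElt_of_orderOf hr rfl).1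
  have hw := mul_ne_one_of_coprime hu1 hux ho
  have d1 := cs_dvd_cs_mul_of_coprime hux ho
  have d2 := cs_dvd_cs_mul_of_coprime' hux ho
  have ec := cent_mul_of_coprime hux ho
  rw [hx] at d2
  have hb : cs(u * x) = b := by
    rcases h.four _ hw with e | e | e | e
    · exact (u1 (h.head₁ u hu1 (e ▸ d1))).elim
    · exact (u2 (h.head₂ u hu1 (e ▸ d1))).elim
    · exact (hna (e ▸ d2)).elim
    · exact e
  have ha : cs(u) = a := by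
    rcases h.four _ hu1 with e | e | e | e
    · exact (u1 e).elim
    · exact (u2 e).elim
    · exact e
    · have e2 := cent_eq_of_le_of_cs_le (x := u * x) (y := u) (ec ▸ inf_le_left) (by rw [hb, e])
      have : y ∈ cent(u) ⊓ cent(x) := by rw [← ec, e2]; exact mem_cent'.2 huy
      exact (h.ncomm x y hx hy (mem_cent'.1 this.2)).elim
  rw [hb] at d2
  rw [hb, ha] at d1
  refine ⟨fun z hz h1 => ?_, ?_⟩
  · rcases h.four _ hz with e | e | e | e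
    · exact (h1 e).elim
    · rw [e]
    · rwa [e]
    · rw [e]; exact h2.trans d1
  · obtain ⟨t, ht⟩ := h.cop.mul_dvd_of_dvd_of_dvd d2 (h2.trans d1)
    have e := card_cent_mul_cs (u * x)
    rw [hb, ht, hm, mul_comm (n₁ * n₂), ← mul_assoc] at e
    have e' := Nat.eq_of_mul_eq_mul_right (Nat.mul_pos (hx ▸ cs_pos x) (hy ▸ cs_pos y)) e
    have : x ∈ cent(u * x) := by rw [ec]; exact ⟨mem_cent'.2 hux, self_mem_cent x⟩
    exact (orderOf_dvd_natCard _ this).trans (Dvd.intro _ e')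

theorem A (h : K2P G n₁ n₂ a b) (hX : LX G n₁ n₂) (hm : Nat.card G = m * (n₁ * n₂)) (hl : l.Prime)
    (hlm : l ∣ m) (hl1 : l ∣ n₁) : (∀ z : G, z ≠ 1 → cs(z) ≠ n₁ → n₂ ∣ cs(z)) ∧
      (∃ z : G, z ≠ 1 ∧ cs(z) ≠ n₂ ∧ ¬ n₁ ∣ cs(z)) ∧ ∃ r : ℕ, r.Prime ∧ r ∣ m ∧ r ∣ n₂ := by
  obtain ⟨x, hr, hx⟩ := h.exp₁
  have hr2 := h.ord₁ x _ hx hr dvd_rfl
  have hxl : l ≠ orderOf x := fun e =>
    hl.one_lt.ne' (Nat.eq_one_of_dvd_coprimes h.cop hl1 (e ▸ hr2))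
  obtain ⟨p, hp, hpl, hp1⟩ := h.two₁ l
  have := Fact.mk hp
  obtain ⟨P⟩ : Nonempty (Sylow p G) := inferInstance
  obtain ⟨z, -, hz, hP⟩ := ito_exists_central P.isPGroup'
    (ito_sylow_ne_bot (hp1.trans (hx ▸ cs_dvd_card x)) P)
  have hz1 := (ito_piElt_of_orderOf hp hz).2
  have hn : ¬ n₁ ∣ cs(z) := fun d => not_dvd_cs_iff.2 ⟨P, hP⟩ (hp1.trans d)
  have hn2 : cs(z) ≠ n₂ := fun e => by
    obtain ⟨u, hu, hu1, hux, huz⟩ := elt h hm hl hlm hx e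
    exact hX l u x z hl hu hu1 hr (hz ▸ hp) hxl.symm (hz ▸ hpl) hx e hux huz
  have h2 := (h.below z hz1).resolve_left hn
  have key : (∀ z : G, z ≠ 1 → cs(z) ≠ n₁ → n₂ ∣ cs(z)) ∧ orderOf x ∣ m := by
    rcases h.four _ hz1 with e | e | e | e
    · exact (hn (e ▸ dvd_rfl)).elim
    · exact (hn2 e).elim
    · exact A' h hm hl hlm hr hx hxl (e ▸ hn) (e ▸ h2)
    · exact A' h.swap hm hl hlm hr hx hxl (e ▸ hn) (e ▸ h2)
  exact ⟨key.1, ⟨z, hz1, hn2, hn⟩, _, hr, key.2, hr2⟩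

theorem B (h : K2P G n₁ n₂ a b) (hX : LX G n₁ n₂) (hm : Nat.card G = m * (n₁ * n₂)) (hl : l.Prime)
    (hlm : l ∣ m) (hl1 : l ∣ n₁) : False := by
  obtain ⟨h1, -, r, hr, hrm, hr2⟩ := A h hX hm hl hlm hl1
  obtain ⟨-, ⟨z, hz, h2, h3⟩, -⟩ := A h.symm hX.symm (by rw [hm, mul_comm n₁]) hr hrm hr2
  exact h3 (h1 z hz h2)

end M1

theorem jM1 : JM1.{u} := by
  intro G _ _ n₁ n₂ a b h hX
  obtain ⟨x, hr, hx⟩ := h.exp₁
  obtain ⟨y, hs, hy⟩ := h.exp₂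
  have d := (cent(x) ⊓ cent(y)).index_dvd_card
  rw [CL.Fgs.index_inf_of_coprime (by rw [hx, hy]; exact h.cop), hx, hy] at d
  obtain ⟨m, hm⟩ := d
  rw [mul_comm] at hm
  by_cases h1 : m = 1
  · rw [hm, h1, one_mul]
  have hl := Nat.minFac_prime h1
  have hlm := Nat.minFac_dvd m
  obtain ⟨u, hu, hu1, hux, huy⟩ := M1.elt h hm hl hlm hx hy
  by_cases e1 : orderOf x = m.minFac
  · exact (M1.B h.symm hX.symm (by rw [hm, mul_comm n₁]) hl hlm (h.ord₁ x _ hx hl (e1 ▸ dvd_rfl))).elim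
  by_cases e2 : orderOf y = m.minFac
  · exact (M1.B h hX hm hl hlm (h.ord₂ y _ hy hl (e2 ▸ dvd_rfl))).elim
  exact (hX _ u x y hl hu hu1 hr hs e1 e2 hx hy hux huy).elim

end CL.Rk4
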