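/-
S3193, job PQ: the `P × Q` lemma and the Fitting subgroup give a normal 2-complement.
-/
import Cfsg.Agent.Rk4.Defs
import Cfsg.Agent.S0028
import Cfsg.Agent.Grp.Fitting

set_option autoImplicit false

universe u

namespace CL.Rk4

open Subgroup Cfsg CL.Grp CL.Fgs CL.Cit

theorem PQ.top {X : Type u} [Group X] [Finite X] (hX : Group.IsSolvable X) (A : Subgroup X) (s : X)
    (hs : IsPiElt {2} s) (hA : Odd (Nat.card A)) {k : ℕ} (hk : A.index = 2 ^ k)
    (hc : cent(s) ≤ centralizer (A : Set X)) : HasNormalPComplement 2 X := by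
  have hsA : s ∈ centralizer (A : Set X) := hc (self_mem_cent s)
  have hab : A ≤ centralizer (A : Set X) := fun a ha => hc (mem_cent.2 (hsA a ha))
  have hcop : (Nat.card A).Coprime 2 := Nat.coprime_two_right.2 hA
  have hV : A ≤ centralizer (pCore 2 X : Set X) :=
    Cfsg.Agent.S0028.result 2 (zpowers s) A (pCore 2 X) hs.isPGroup_zpowers hcop (pCore_isPGroup 2 X)
      (zpowers_le.2 hsA) le_normalizer_of_normal le_normalizer_of_normal
      fun v hv => hc (mem_cent'.2 (hv.2 s (mem_zpowers s)))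
  have hW : ∀ (q : ℕ) [Fact q.Prime], q ≠ 2 → pCore q X ≤ A := fun q hq h2 => by
    apply le_of_normal_of_coprime_index
    obtain ⟨j, hj⟩ := (pCore_isPGroup q X).exists_card_eq
    rw [hj, hk]
    exact Nat.Coprime.pow _ _ ((Nat.coprime_primes hq.out Nat.prime_two).2 h2)
  have hF : A ≤ fittingSubgroup X := by
    refine le_trans ?_ (centralizer_fittingSubgroup_le X)
    rw [le_centralizer_iff]
    refine fittingSubgroup_le_of_forall_pCore_le fun q _ => ?_
    by_cases h2 : q = 2
    · subst h2; exact le_centralizer_iff.1 hV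
    · exact (hW q h2).trans hab
  have hN : A.Normal := ⟨fun a ha g => by
    have h1 : g * a * g⁻¹ ∈ fittingSubgroup X := (fittingSubgroup_normal X).conj_mem a (hF ha) g
    refine mem_of_forall_piPart_mem fun q hq hd => ?_
    have := Fact.mk hq
    have h2 : q ≠ 2 := by
      rintro rfl
      rw [orderOf_conj'] at hd
      exact (Nat.prime_two.coprime_iff_not_dvd.1 hcop.symm) (hd.trans (orderOf_dvd_natCard A ha))
    exact hW q h2 (le_pCore_of_le_fittingSubgroup (isPiElt_piPart {q} _).isPGroup_zpowers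
      (zpowers_le.2 (piPart_mem h1)) (mem_zpowers _))⟩
  obtain ⟨T⟩ : Nonempty (Sylow 2 X) := inferInstance
  obtain ⟨j, hj⟩ := T.isPGroup'.exists_card_eq
  have hc2 : (Nat.card A).Coprime (Nat.card T) := by rw [hj]; exact hcop.pow_right _
  refine ⟨T, A, hN, isComplement'_of_coprime ?_ hc2⟩
  have e1 := A.card_mul_index
  have e2 := (T : Subgroup X).card_mul_index
  refine Nat.dvd_antisymm (hc2.mul_dvd_of_dvd_of_dvd (card_subgroup_dvd_card _) (card_subgroup_dvd_card _)) ?_
  rw [← e1]
  refine Nat.mul_dvd_mul_left _ ?_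
  have h3 : A.index ∣ Nat.card T * (T : Subgroup X).index := by rw [e2]; exact A.index_dvd_card
  refine Nat.Coprime.dvd_of_dvd_mul_right ?_ h3
  rw [hk]
  exact ((Nat.prime_two.coprime_iff_not_dvd).2 T.not_dvd_index).pow_left _

theorem jPQ : JPQ.{u} := by
  intro G _ _ D A s hD hs hs2 hAD hA ⟨k, hk⟩ hc
  refine PQ.top hD (A.subgroupOf D) ⟨s, hs⟩ (isPiElt_coe_iff.1 hs2) ?_ hk ?_
  · rwa [Nat.card_congr (subgroupOfEquivOfLe hAD).toEquiv]
  · intro y hy a ha
    rw [cent_coe] at hy
    exact Subtype.ext (hc ⟨hy, y.2⟩ a ha)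

end CL.Rk4
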