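/-
Rank four project: `PSp₄(2ⁿ)` has five different centralizer orders.
-/
import Cfsg.Agent.Rk4.Defs
import Cfsg.Agent.Known.SpecS4

set_option autoImplicit false

universe u

namespace CL.Rk4

open Subgroup Cfsg CL.Grp CL.Fgs CL.Cit
open scoped MatrixGroups

namespace S4

theorem rank5_of_spec {G : Type*} [Group G] [Finite G] {a : ℕ} (ha : 3 ≤ a) (ho : ¬ 2 ∣ a)
    (H : ∀ m : ℕ, (∃ g : G, orderOf g = m) ↔
      m ∣ a * (a + 2) ∨ m ∣ a * (a + 2) + 2 ∨ m ∣ 2 * a ∨ m ∣ 2 * (a + 2) ∨ m ∣ 4) : Rank5 G := by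
  have ho2 : ¬ 2 ∣ a + 2 := by omega
  have hoP : ¬ 2 ∣ a * (a + 2) := fun h => (Nat.prime_two.dvd_mul.1 h).elim ho ho2
  have hoQ : ¬ 2 ∣ a * (a + 2) + 2 := by omega
  have hP : 3 * (a + 2) ≤ a * (a + 2) := Nat.mul_le_mul_right _ ha
  -- large numbers are not element orders
  have big : ∀ g : G, orderOf g ≤ a * (a + 2) + 2 := fun g => by
    rcases (H _).1 ⟨g, rfl⟩ with h | h | h | h | h <;> have := Nat.le_of_dvd (by omega) h <;> omega
  have bigE : ∀ g : G, 2 ∣ orderOf g → orderOf g ≤ 2 * (a + 2) := fun g h2 => by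
    rcases (H _).1 ⟨g, rfl⟩ with h | h | h | h | h
    · exact absurd (h2.trans h) hoP
    · exact absurd (h2.trans h) hoQ
    all_goals have := Nat.le_of_dvd (by omega) h; omega
  have big4 : ∀ g : G, 4 ∣ orderOf g → orderOf g ≤ 4 := fun g h4 => by
    have h2 : 2 ∣ orderOf g := Dvd.dvd.trans (by norm_num) h4
    rcases (H _).1 ⟨g, rfl⟩ with h | h | h | h | h
    · exact absurd (h2.trans h) hoP
    · exact absurd (h2.trans h) hoQ
    · have := h4.trans h; omega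
    · have := h4.trans h; omega
    · exact Nat.le_of_dvd (by omega) h
  obtain ⟨x₁, h₁⟩ := (H 4).2 (by simp)
  obtain ⟨x₂, h₂⟩ := (H (2 * (a + 2))).2 (by simp)
  obtain ⟨x₃, h₃⟩ := (H (2 * a)).2 (by simp)
  obtain ⟨x₄, h₄⟩ := (H (a * (a + 2))).2 (by simp)
  obtain ⟨x₅, h₅⟩ := (H (a * (a + 2) + 2)).2 (by simp)
  obtain ⟨s, hs, hsa⟩ := Nat.exists_prime_and_dvd (n := a) (by omega)
  obtain ⟨r, hr, hra⟩ := Nat.exists_prime_and_dvd (n := a + 2) (by omega)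
  have hs2 : ¬ s ∣ 2 := fun h => ho ((Nat.prime_dvd_prime_iff_eq hs Nat.prime_two).1 h ▸ hsa)
  have hr2 : ¬ r ∣ 2 := fun h => ho2 ((Nat.prime_dvd_prime_iff_eq hr Nat.prime_two).1 h ▸ hra)
  have d₁ := orderOf_dvd_card_cent x₁
  have d₂ := orderOf_dvd_card_cent x₂
  have d₃ := orderOf_dvd_card_cent x₃
  have d₄ := orderOf_dvd_card_cent x₄
  rw [h₁] at d₁
  rw [h₂] at d₂
  rw [h₃] at d₃
  rw [h₄] at d₄
  have e₁ : 2 ∣ Nat.card cent(x₁) := Dvd.dvd.trans (by norm_num) d₁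
  have e₂ : 2 ∣ Nat.card cent(x₂) := (dvd_mul_right _ _).trans d₂
  have e₃ : 2 ∣ Nat.card cent(x₃) := (dvd_mul_right _ _).trans d₃
  have o₄ : ¬ 2 ∣ Nat.card cent(x₄) := fun h => by
    obtain ⟨g, hg⟩ := exists_orderOf_mul Nat.prime_two h (h₄ ▸ hoP)
    have := big g
    omega
  have o₅ : ¬ 2 ∣ Nat.card cent(x₅) := fun h => by
    obtain ⟨g, hg⟩ := exists_orderOf_mul Nat.prime_two h (h₅ ▸ hoQ)
    have := big g
    omega
  have n₁ : ∀ t : ℕ, t.Prime → ¬ t ∣ 2 → ¬ t ∣ Nat.card cent(x₁) := fun t ht h2 h => by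
    obtain ⟨g, hg⟩ := exists_orderOf_mul ht h (by
      rw [h₁]; exact fun h' => h2 (ht.dvd_of_dvd_pow (n := 2) h'))
    rw [h₁] at hg
    have := big4 g (hg ▸ dvd_mul_left _ _)
    have := ht.two_le
    omega
  have n₂ : ¬ s ∣ Nat.card cent(x₂) := fun h => by
    obtain ⟨g, hg⟩ := exists_orderOf_mul hs h (by
      rw [h₂]
      exact fun h' => (hs.dvd_mul.1 h').elim hs2 fun h'' => hs2 ((Nat.dvd_add_right hsa).1 h''))
    rw [h₂] at hg
    have h1 := bigE g (hg ▸ (dvd_mul_right 2 _).trans (dvd_mul_left _ _))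
    have h2 : 2 * (2 * (a + 2)) ≤ s * (2 * (a + 2)) := Nat.mul_le_mul_right _ hs.two_le
    omega
  have n₅ : ¬ s ∣ Nat.card cent(x₅) := fun h => by
    obtain ⟨g, hg⟩ := exists_orderOf_mul hs h (by
      rw [h₅]
      exact fun h' => hs2 ((Nat.dvd_add_right (hsa.trans (dvd_mul_right _ _))).1 h'))
    rw [h₅] at hg
    have h1 := big g
    have h2 : 2 * (a * (a + 2) + 2) ≤ s * (a * (a + 2) + 2) := Nat.mul_le_mul_right _ hs.two_le
    omega
  have p₃ : s ∣ Nat.card cent(x₃) := (hsa.trans (dvd_mul_left _ _)).trans d₃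
  have p₄ : s ∣ Nat.card cent(x₄) := (hsa.trans (dvd_mul_right _ _)).trans d₄
  have p₂ : r ∣ Nat.card cent(x₂) := (hra.trans (dvd_mul_left _ _)).trans d₂
  have ne : ∀ x : G, 1 < orderOf x → x ≠ 1 := fun x h e => by
    rw [e, orderOf_one] at h
    exact lt_irrefl _ h
  refine rank5_of (ne x₁ (by omega)) (ne x₂ (by omega)) (ne x₃ (by omega)) (ne x₄ (by omega))
    (ne x₅ (by omega)) ?_
  have q₁₂ : Nat.card cent(x₁) ≠ Nat.card cent(x₂) := fun e => n₁ r hr hr2 (e ▸ p₂)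
  have q₁₃ : Nat.card cent(x₁) ≠ Nat.card cent(x₃) := fun e => n₁ s hs hs2 (e ▸ p₃)
  have q₂₃ : Nat.card cent(x₂) ≠ Nat.card cent(x₃) := fun e => n₂ (e ▸ p₃)
  have q₄₅ : Nat.card cent(x₄) ≠ Nat.card cent(x₅) := fun e => n₅ (e ▸ p₄)
  simp only [List.nodup_cons, List.mem_cons, List.not_mem_nil, or_false, not_or, not_false_eq_true,
    List.nodup_nil, and_true]
  refine ⟨⟨q₁₂, q₁₃, ?_, ?_⟩, ⟨q₂₃, ?_, ?_⟩, ⟨?_, ?_⟩, q₄₅⟩ <;> omega

end S4

theorem jS4 : JS4 := by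
  intro F _ _ n hn hF
  have : Fact (Nat.Prime 2) := ⟨Nat.prime_two⟩
  have : CharP F 2 := charP_of_card_eq_prime_pow hF
  have h := CL.Cls.SpS.eq_S4 (CL.Cls.spS_PSp (F := F) 2 (n := 2) two_ne_zero)
  obtain ⟨k, rfl⟩ := Nat.exists_eq_add_of_le' hn
  have hk : 0 < 2 ^ k := by positivity
  obtain ⟨a, ha⟩ : ∃ a, Fintype.card F = a + 1 := ⟨Fintype.card F - 1, by rw [hF, pow_add]; omega⟩
  have ha' : a + 1 = 4 * 2 ^ k := by rw [← ha, hF, pow_add]; omega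
  have e1 : (a + 1) ^ 2 - 1 = a * (a + 2) := by
    rw [Nat.sub_eq_iff_eq_add (Nat.one_le_pow _ _ (by omega))]; ring
  have e2 : (a + 1) ^ 2 + 1 = a * (a + 2) + 2 := by ring
  have e3 : (a + 1) % 2 + 1 = 1 := by omega
  refine S4.rank5_of_spec (a := a) (by omega) (by omega) fun m => ?_
  change m ∈ CL.Perm.Spec (PSp 2 F) ↔ _
  rw [h, ha]
  simp only [CL.Cls.S4, Set.mem_ofPred_eq, Bool.exists_bool, CL.Cls.tn_true, CL.Cls.tn_false, e1, e2, e3,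
    Nat.div_one, pow_one, Nat.add_sub_cancel, add_assoc a 1 1]
  norm_num
  tauto

end CL.Rk4
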