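/-
Simple groups of conjugate type rank four (S3193): the last configuration has a strongly embedded subgroup.
-/
import Cfsg.Agent.Rk4.Defs
import Cfsg.Agent.Cit.FrobSys

set_option autoImplicit false
set_option linter.unusedSectionVars false

universe u

namespace CL.Rk4

open Subgroup Cfsg CL.Grp CL.Fgs CL.Cit
open scoped MatrixGroups

namespace SEh

variable {G : Type u} [Group G] [Finite G] {n₁ n₂ a b : ℕ}

theorem odd₁ (h : K3 G n₁ n₂ a b) : ¬ 2 ∣ n₁ := fun h2 =>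
  absurd (Nat.eq_one_of_dvd_coprimes h.cop h2 h.even) (by norm_num)

theorem ne₁ (h : K3 G n₁ n₂ a b) (hI : Isol G n₁) {v : G} (hv : orderOf v = 2) : cs(v) ≠ n₁ := fun e => by
  obtain ⟨A, hA, hb, hc⟩ := exists_abelian_normal_of_isolated (z := v) ⟨hv, hI v e⟩
  have := h.nas.1
  rcases hA.eq_bot_or_eq_top with r | r
  · exact hb r
  · subst r
    refine h.nas.2 ⟨⟨fun x y => ?_⟩⟩
    exact congrArg Subtype.val (hc.1.1 (⟨x, trivial⟩ : (⊤ : Subgroup G)) ⟨y, trivial⟩)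

theorem ne₂ (h : K3 G n₁ n₂ a b) {v : G} (hv : orderOf v = 2) : cs(v) ≠ n₂ := fun e =>
  odd₁ h (h.ord₂ v 2 e Nat.prime_two (hv ▸ dvd_rfl))

theorem cop {v w : G} (hv : orderOf v = 2) (hw : ¬ 2 ∣ orderOf w) : (orderOf v).Coprime (orderOf w) := by
  rw [hv]; exact (Nat.Prime.coprime_iff_not_dvd Nat.prime_two).2 hw

theorem two (h : K3 G n₁ n₂ a b) (hI : Isol G n₁) {v w : G} (hv : orderOf v = 2) (hc : Commute v w)
    (hw : ¬ 2 ∣ orderOf w) : cs(v * w) = a ∨ cs(v * w) = b := by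
  have v1 : v ≠ 1 := (ito_piElt_of_orderOf Nat.prime_two hv).2
  have hd := cs_dvd_cs_mul_of_coprime hc (cop hv hw)
  rcases h.four _ (mul_ne_one_of_coprime v1 hc (cop hv hw)) with e | e | e | e
  · exact absurd (h.head₁ v v1 (e ▸ hd)) (ne₁ h hI hv)
  · exact absurd (h.head₂ v v1 (e ▸ hd)) (ne₂ h hv)
  · exact Or.inl e
  · exact Or.inr e

theorem two' (h : K3 G n₁ n₂ a b) (hI : Isol G n₁) {v : G} (hv : orderOf v = 2) : cs(v) = a ∨ cs(v) = b := by
  simpa using two h hI hv (Commute.one_right v) (by simp)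

theorem le_of_eq {v w : G} (hv : orderOf v = 2) (hc : Commute v w) (hw : ¬ 2 ∣ orderOf w)
    (e : cs(v * w) = cs(v)) : cent(v) ≤ cent(w) := by
  rw [cs_mul_of_coprime' hc (cop hv hw)] at e
  exact relIndex_eq_one.1 (Nat.eq_of_mul_eq_mul_right (cs_pos v) (e.trans (one_mul _).symm))

theorem key (h : K3 G n₁ n₂ a b) (hI : Isol G n₁) (ha : ¬ 2 ∣ a) (hb : 2 ∣ b) {x v : G} (hx : cs(x) = n₁)
    (ho : ¬ 2 ∣ orderOf x) (hv : orderOf v = 2) (hc : Commute v x) : cent(v) ≤ cent(x) := by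
  have : Fact (Nat.Prime 2) := ⟨Nat.prime_two⟩
  rcases two' h hI hv with e | e
  · obtain ⟨T, hT⟩ := not_dvd_cs_iff.1 (e ▸ ha : ¬ 2 ∣ cs(v))
    have vT : v ∈ (T : Subgroup G) :=
      (isSylowIn_of_le T hT).le_of_normalized (ito_piElt_of_orderOf Nat.prime_two hv).1.isPGroup_zpowers
        (zpowers_le_cent v) (CL.Fgs.cent_le_normalizer_zpowers v) (mem_zpowers v)
    obtain ⟨k, hk⟩ := exists_conj_mem_centralizer_of_not_dvd_cs (hx ▸ odd₁ h : ¬ 2 ∣ cs(x)) T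
    have c2 : Commute v (k * x * k⁻¹) := hk v vT
    have o2 : ¬ 2 ∣ orderOf (k * x * k⁻¹) := by rwa [orderOf_conj']
    have od : ¬ 2 ∣ cs(v * (k * x * k⁻¹)) := not_dvd_cs_iff.2 ⟨T, fun t ht =>
      inf_le_cent_mul _ _ ⟨hT ht, mem_cent.2 (hk t ht)⟩⟩
    have l : cent(v) ≤ cent(k * x * k⁻¹) := by
      refine le_of_eq hv c2 o2 ?_
      rcases two h hI hv c2 o2 with r | r
      · rw [r, e]
      · exact absurd (r ▸ hb) od
    have := hI x hx k (mem_cent.1 (l (mem_cent'.2 hc)))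
    rwa [this] at l
  · refine le_of_eq hv hc ho ?_
    rcases two h hI hv hc ho with r | r
    · exact absurd ((e ▸ hb : 2 ∣ cs(v)).trans (r ▸ cs_dvd_cs_mul_of_coprime hc (cop hv ho))) ha
    · rw [r, e]

theorem se (h : K3 G n₁ n₂ a b) (hI : Isol G n₁) (ha : ¬ 2 ∣ a) (hb : 2 ∣ b) :
    ∃ H : Subgroup G, IsStronglyEmbedded H := by
  have : Fact (Nat.Prime 2) := ⟨Nat.prime_two⟩
  obtain ⟨x, hp, hx⟩ := h.exp₁
  have ho : ¬ 2 ∣ orderOf x := fun d =>
    ne₁ h hI ((Nat.prime_dvd_prime_iff_eq Nat.prime_two hp).1 d).symm hx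
  have x1 : x ≠ 1 := fun e => by rw [e, orderOf_one] at hp; exact Nat.not_prime_one hp
  refine ⟨cent(x), fun e => h.nas.not_mem_center x1 (cent_eq_top_iff.1 e), ?_, fun g hg => ?_⟩
  · have := card_cent_mul_cs x
    rw [hx, h.card, mul_comm n₁] at this
    rw [Nat.eq_of_mul_eq_mul_right (hx ▸ cs_pos x) this]
    exact even_iff_two_dvd.2 h.even
  · rw [← cent_conj_eq_map, ← Nat.not_even_iff_odd, even_iff_two_dvd]
    intro d
    obtain ⟨v, hv⟩ := exists_prime_orderOf_dvd_card' 2 d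
    rw [← Subgroup.orderOf_coe] at hv
    have l := key h hI ha hb hx ho hv (mem_cent.1 v.2.1)
    exact hg (mem_cent_iff_conj.2 (hI x hx g (mem_cent'.1 (l (mem_cent_comm.1 v.2.2)))))

theorem main (hD : JDir.{u}) (h : K3 G n₁ n₂ a b) (hI : Isol G n₁) {t : G} (S : Sylow 2 G) (ht : orderOf t = 2)
    (hS : (S : Subgroup G) ≤ cent(t)) (e : cs(t) = a) : G1 G ∨ ∃ H : Subgroup G, IsStronglyEmbedded H := by
  have : Fact (Nat.Prime 2) := ⟨Nat.prime_two⟩
  by_cases hd : Dir cent(t)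
  · exact Or.inl ⟨t, S, ht, hS, (hD G _ hd).2.2 S hS⟩
  have ha : ¬ 2 ∣ a := e ▸ not_dvd_cs_iff.2 ⟨S, hS⟩
  simp only [Dir, not_forall, not_not] at hd
  obtain ⟨w, hw, ho, h2⟩ := hd
  rw [isPiElt_compl_singleton_iff Nat.prime_two] at ho
  have d : 2 ∣ cs(t * w) := by
    rw [cs_mul_of_coprime' (mem_cent'.1 hw) (cop ht ho)]; exact h2.mul_right _
  rcases two h hI ht (mem_cent'.1 hw) ho with r | r
  · exact absurd (r ▸ d) ha
  · exact Or.inr (se h hI ha (r ▸ d))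

end SEh

theorem jSE : JSE.{u} := fun hD G _ _ n₁ n₂ a b h hI => by
  have : Fact (Nat.Prime 2) := ⟨Nat.prime_two⟩
  obtain ⟨S⟩ : Nonempty (Sylow 2 G) := inferInstance
  obtain ⟨t, -, ht, hS⟩ := ito_exists_central S.isPGroup'
    (ito_sylow_ne_bot (by rw [h.card]; exact h.even.mul_left _) S)
  rcases SEh.two' h hI ht with e | e
  · exact SEh.main hD h hI S ht hS e
  · exact SEh.main hD h.swap hI S ht hS e

end CL.Rk4
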