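/-
Simple groups of conjugate type rank four (S3193): the Suzuki groups and `PSL₂(5)`.
-/
import Cfsg.Agent.Rk4.Defs
import Cfsg.Agent.Cit.CT
import Cfsg.Agent.Chev.SzPart
import Cfsg.Agent.S0252
import Cfsg.Agent.S0253

set_option autoImplicit false

universe u

namespace CL.Rk4

open Subgroup Cfsg CL.Grp CL.Fgs CL.Cit
open scoped MatrixGroups

theorem sz_exists_cent {G : Type*} [Group G] {F : Type*} [Field F] [Finite F]
    (M : CL.Chev.Sz.Model G F) {m : ℕ} (hm : 1 ≤ m) (hq : Nat.card F = 2 ^ (2 * m + 1)) {k : ℕ}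
    (hk : k ∈ CL.Chev.Sz.torusOrders m) : ∃ g : G, g ≠ 1 ∧ Nat.card cent(g) = k := by
  have hG := M.card_G
  have : Finite G := M.finite
  have h5 := CL.Chev.Sz.five_le_of_mem_torusOrders hm hk
  have hp : (Nat.minFac k).Prime := Nat.minFac_prime (by omega)
  have hkG : k ∣ Nat.card G := by
    rw [hG, hq, ← CL.Chev.Sz.nplus_mul_nminus]
    rcases hk with rfl | rfl | rfl
    · exact Dvd.dvd.mul_right (Dvd.intro_left _ rfl) _
    · exact Dvd.dvd.mul_left (Dvd.intro _ rfl) _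
    · exact Dvd.dvd.mul_left (Dvd.intro_left _ rfl) _
  have := Fact.mk hp
  obtain ⟨g, hg⟩ := exists_prime_orderOf_dvd_card' (G := G) (Nat.minFac k) ((Nat.minFac_dvd k).trans hkG)
  have hg1 : g ≠ 1 := by
    rintro rfl
    rw [orderOf_one] at hg
    exact hp.one_lt.ne hg
  have hodd : Odd (orderOf g) := by
    rw [hg]; exact (CL.Chev.Sz.odd_of_mem_torusOrders hk).of_dvd_nat (Nat.minFac_dvd k)
  have hc := M.card_centralizer_mem hm hq (CL.Chev.Sz.Model.pow_four_ne_one_of_odd hg1 hodd)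
  refine ⟨g, hg1, ?_⟩
  by_contra hne
  have hco := CL.Chev.Sz.coprime_of_mem_torusOrders hc hk hne
  have h1 : Nat.minFac k ∣ Nat.card cent(g) := hg ▸ orderOf_dvd_card_cent g
  exact hp.one_lt.ne' (Nat.eq_one_of_dvd_coprimes hco h1 (Nat.minFac_dvd k))

theorem jSz : JSz.{u} := by
  intro G _ h
  obtain ⟨F, _, _, m, hm, hq, ⟨M⟩⟩ := exists_model_of_isoSuzuki h
  have m1 : 2 ^ (2 * m + 1) - 1 ∈ CL.Chev.Sz.torusOrders m := Or.inl rfl
  have m2 : 2 ^ (2 * m + 1) + 2 ^ (m + 1) + 1 ∈ CL.Chev.Sz.torusOrders m := Or.inr (Or.inl rfl)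
  have m3 : 2 ^ (2 * m + 1) - 2 ^ (m + 1) + 1 ∈ CL.Chev.Sz.torusOrders m := Or.inr (Or.inr rfl)
  obtain ⟨x, hx, ex⟩ := sz_exists_cent M hm hq m1
  obtain ⟨y, hy, ey⟩ := sz_exists_cent M hm hq m2
  obtain ⟨z, hz, ez⟩ := sz_exists_cent M hm hq m3
  have h1 := CL.Chev.Sz.two_r_le hm
  have h2 := CL.Chev.Sz.four_le_r hm
  refine ⟨x, y, z, hx, hy, hz, ?_, ?_, ?_, ?_, ?_, ?_⟩
  · rw [ex]; exact CL.Chev.Sz.odd_of_mem_torusOrders m1
  · rw [ey]; exact CL.Chev.Sz.odd_of_mem_torusOrders m2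
  · rw [ez]; exact CL.Chev.Sz.odd_of_mem_torusOrders m3
  · rw [ex, ey]; omega
  · rw [ex, ez]; omega
  · rw [ey, ez]; omega

theorem jL25 : JL25 := by
  intro F _ _ hF
  let : Fintype (GaloisField 2 2) := Fintype.ofFinite _
  have hE : Fintype.card (GaloisField 2 2) = 4 := card_galoisField 2 (by norm_num)
  obtain ⟨e1⟩ := Cfsg.Agent.S0253.result hF
  obtain ⟨e2⟩ := Cfsg.Agent.S0252.result hE
  exact ⟨GaloisField 2 2, inferInstance, inferInstance, hE, ⟨e1.trans e2.symm⟩⟩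

end CL.Rk4
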