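/-
Simple groups of conjugate type rank four: the combinatorics of four class sizes (job RK4-Tri).
-/
import Cfsg.Agent.Rk4.Defs

set_option autoImplicit false

universe u

namespace CL.Rk4

open Subgroup Cfsg CL.Grp CL.Fgs CL.Cit
open scoped MatrixGroups

namespace Tri

variable {G : Type*} [Group G] [Finite G]

/-- `n` is a minimal class size -/
def Hd (G : Type*) [Group G] (n : ℕ) : Prop := (∃ x : G, x ≠ 1 ∧ cs(x) = n) ∧ ∀ x : G, x ≠ 1 → cs(x) ∣ n → cs(x) = n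

theorem exists_hd {x : G} (hx : x ≠ 1) : ∃ n, Hd G n ∧ n ∣ cs(x) := by
  classical
  have h : ∃ n, (∃ y : G, y ≠ 1 ∧ cs(y) = n) ∧ n ∣ cs(x) := ⟨_, ⟨x, hx, rfl⟩, dvd_rfl⟩
  obtain ⟨⟨y, hy, e⟩, hd⟩ := Nat.find_spec h
  exact ⟨_, ⟨⟨y, hy, e⟩, fun z hz hz' => le_antisymm (Nat.le_of_dvd (e ▸ cs_pos y) hz')
    (Nat.find_min' h ⟨⟨z, hz, rfl⟩, hz'.trans hd⟩)⟩, hd⟩

theorem card_ne_of_cs_ne {x y : G} (h : cs(x) ≠ cs(y)) : Nat.card cent(x) ≠ Nat.card cent(y) := fun e =>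
  h (Nat.eq_of_mul_eq_mul_left (Nat.card_pos (α := cent(y)))
    (by rw [card_cent_mul_cs y, ← e, card_cent_mul_cs]))

/-- a non-abelian simple group has two minimal class sizes -/
theorem exists_second_hd (h : NAS G) {n : ℕ} (hn : Hd G n) : ∃ m, Hd G m ∧ m ≠ n := by
  by_contra hc
  push Not at hc
  obtain ⟨⟨x, hx, e⟩, -⟩ := hn
  obtain ⟨p, hp, hd⟩ := Nat.exists_prime_and_dvd (h.one_lt_cs hx).ne'
  have := Fact.mk hp
  obtain ⟨P⟩ : Nonempty (Sylow p G) := inferInstance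
  obtain ⟨z, -, hz, hP⟩ := ito_exists_central P.2 (ito_sylow_ne_bot (hd.trans (cs_dvd_card x)) P)
  obtain ⟨m, hm, hm'⟩ := exists_hd (x := z) (by rintro rfl; exact hp.one_lt.ne (by simpa using hz))
  exact not_dvd_cs_iff.2 ⟨P, hP⟩ ((hd.trans (e.trans (hc m hm).symm).dvd).trans hm')

end Tri

open Tri in
theorem jTri : JTri.{u} := by
  intro G _ _ h h5
  by_cases hc : ∃ c, ∀ x : G, x ≠ 1 → Hd G cs(x) ∨ cs(x) = c
  · obtain ⟨c, hc⟩ := hc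
    refine Or.inl ⟨c, h, fun v x hv h1 hx hd => ?_, fun s x _ hs hx hd => ?_⟩
    · exact ((hc v (by rintro rfl; simp at hv)).resolve_right h1).2 x hx hd
    · exact (hc x hx).imp (fun h => (h.2 s hs hd).symm) id
  push Not at hc
  obtain ⟨a, ha, ha', -⟩ := hc 0
  obtain ⟨b, hb, hb', hab⟩ := hc cs(a)
  obtain ⟨n₁, h₁, -⟩ := exists_hd ha
  obtain ⟨n₂, h₂, h12⟩ := exists_second_hd h h₁
  have four : ∀ x : G, x ≠ 1 → cs(x) = n₁ ∨ cs(x) = n₂ ∨ cs(x) = cs(a) ∨ cs(x) = cs(b) := fun x hx => by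
    by_contra hn
    push Not at hn
    obtain ⟨⟨y, hy, rfl⟩, k1⟩ := id h₁
    obtain ⟨⟨z, hz, rfl⟩, k2⟩ := id h₂
    have e1 : ∀ {u v : G}, Hd G cs(u) → ¬ Hd G cs(v) → cs(u) ≠ cs(v) := fun h h' e => h' (e ▸ h)
    refine h5 (rank5_of hx hy hz ha hb ?_)
    simp only [List.nodup_cons, List.mem_cons, List.not_mem_nil, or_false, not_or, List.nodup_nil, and_true,
      not_false_eq_true]
    exact ⟨⟨card_ne_of_cs_ne hn.1, card_ne_of_cs_ne hn.2.1, card_ne_of_cs_ne hn.2.2.1, card_ne_of_cs_ne hn.2.2.2⟩,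
      ⟨card_ne_of_cs_ne h12.symm, card_ne_of_cs_ne (e1 h₁ ha'), card_ne_of_cs_ne (e1 h₁ hb')⟩,
      ⟨card_ne_of_cs_ne (e1 h₂ ha'), card_ne_of_cs_ne (e1 h₂ hb')⟩, card_ne_of_cs_ne hab.symm⟩
  refine Or.inr ⟨n₁, n₂, _, _, h, four, h₁.1, h₂.1, h₁.2, h₂.2, fun x hx => ?_⟩
  obtain ⟨m, hm, hd⟩ := exists_hd hx
  obtain ⟨⟨y, hy, rfl⟩, -⟩ := id hm
  rcases four y hy with e | e | e | e
  exacts [Or.inl (e ▸ hd), Or.inr (e ▸ hd), (ha' (e ▸ hm)).elim, (hb' (e ▸ hm)).elim]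

end CL.Rk4
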