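/-
Project RK4: three different odd centraliser orders in `PSU₃(2^n)`.
-/
import Cfsg.Agent.Rk4.Defs
import Cfsg.Agent.Known.SpecLU2
import Cfsg.Agent.Chev.U3Even

set_option autoImplicit false

universe u

namespace CL.Rk4

open Subgroup Cfsg CL.Grp CL.Fgs CL.Cit
open scoped MatrixGroups

namespace U3a

open Matrix

theorem diag_of_comm {n : ℕ} {F : Type*} [Field F] {d : Fin n → F} (hd : Function.Injective d)
    {y : Matrix (Fin n) (Fin n) F} (h : y * diagonal d = diagonal d * y) : y = diagonal fun i => y i i := by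
  ext i j
  by_cases e : i = j
  · subst e; simp
  · have := congrFun (congrFun h i) j
    rw [mul_diagonal, diagonal_mul, mul_comm] at this
    rw [diagonal_apply_ne _ e]
    by_contra h0
    exact e (hd (mul_right_cancel₀ h0 this).symm)

theorem mem_SU {n q : ℕ} {F : Type*} [Field F] {A : SpecialLinearGroup (Fin n) F} :
    A ∈ SU n F q ↔ ∀ u v, hermForm n F q (A.1 *ᵥ u) (A.1 *ᵥ v) = hermForm n F q u v := Iff.rfl

theorem diag_mem {n q : ℕ} {F : Type*} [Field F] {d : Fin n → F} (hd : ∀ i, d i ^ (q + 1) = 1)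
    (h : (diagonal d).det = 1) : (⟨diagonal d, h⟩ : SpecialLinearGroup (Fin n) F) ∈ SU n F q :=
  mem_SU.2 fun u v => Finset.sum_congr rfl fun i _ => by
    rw [mulVec_diagonal, mulVec_diagonal, mul_pow, mul_mul_mul_comm, ← pow_succ', hd, one_mul]

theorem pow_eq_one {n q : ℕ} {F : Type*} [Field F] (hq : q ≠ 0) {d : Fin n → F} {y : SU n F q}
    (h : y.1.1 = diagonal d) : y ^ (q + 1) = 1 := by
  have h1 : ∀ i, d i ^ (q + 1) = 1 := fun i => by
    have := mem_SU.1 y.2 (Pi.single i 1) (Pi.single i 1)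
    rw [h, hermForm, hermForm, Finset.sum_eq_single i, Finset.sum_eq_single i] at this
    · simpa [mulVec_diagonal, pow_succ'] using this
    all_goals simp +contextual [mulVec_diagonal]
  refine Subtype.ext (Subtype.ext ?_)
  change y.1.1 ^ (q + 1) = 1
  rw [h, diagonal_pow, show d ^ (q + 1) = fun _ => 1 from funext h1]
  rfl

/-- an element all primes of whose centraliser order divide `q + 1` -/
theorem exists_z {F : Type} [Field F] [Fintype F] {q : ℕ} (hq : 2 ∣ q) (hF : Fintype.card F = q ^ 2) :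
    ∃ z : PSU 3 F q, ∀ r : ℕ, r.Prime → r ∣ Nat.card cent(z) → r ∣ q + 1 := by
  classical
  have q0 : q ≠ 0 := by
    rintro rfl
    exact Fintype.card_ne_zero (α := F) hF
  obtain ⟨r, hr, hd⟩ := Nat.exists_prime_and_dvd (show q + 1 ≠ 1 by omega)
  have := Fact.mk hr
  have hc : r ∣ Nat.card Fˣ := by
    rw [Nat.card_units, Nat.card_eq_fintype_card, hF, ← one_pow 2, Nat.sq_sub_sq q 1]
    exact hd.mul_right _
  obtain ⟨a, ha⟩ := exists_prime_orderOf_dvd_card' r hc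
  have a1 : (a : F) ≠ 1 := fun e => hr.one_lt.ne' (by rw [← ha, orderOf_eq_one_iff, Units.ext_iff, e]; rfl)
  have a2 : (a : F) ≠ (a : F)⁻¹ := fun e => by
    have h2 : r ∣ 2 := by
      rw [← ha, orderOf_dvd_iff_pow_eq_one, Units.ext_iff, Units.val_pow_eq_pow_val, pow_two]
      nth_rewrite 1 [e]
      exact inv_mul_cancel₀ a.ne_zero
    rw [(Nat.prime_dvd_prime_iff_eq hr Nat.prime_two).1 h2] at hd
    omega
  have a3 : (a : F) ^ (q + 1) = 1 := by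
    rw [← Units.val_pow_eq_pow_val, orderOf_dvd_iff_pow_eq_one.1 (ha ▸ hd), Units.val_one]
  have hi : Function.Injective ![(a : F), (a : F)⁻¹, 1] := by
    intro i j
    fin_cases i <;> fin_cases j <;> simp [a1, a2, a1.symm, a2.symm]
  have hp : ∀ i, ![(a : F), (a : F)⁻¹, 1] i ^ (q + 1) = 1 := fun i => by
    fin_cases i <;> simp [a3]
  have hdet : (diagonal ![(a : F), (a : F)⁻¹, 1]).det = 1 := by
    simp [det_diagonal, Fin.prod_univ_three]
  refine ⟨((⟨_, diag_mem hp hdet⟩ : SU 3 F q) : SU 3 F q ⧸ center (SU 3 F q)), fun s hs h =>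
    dvd_of_dvd_card_cent_mk (fun y hy => pow_eq_one q0 (diag_of_comm hi ?_)) hs h⟩
  exact congrArg (fun g : SU 3 F q => g.1.1) hy.eq

theorem exists_prime {s : ℕ} (hs : 2 ≤ s) : ∃ r : ℕ, r.Prime ∧ r ≠ 3 ∧ r ∣ s ^ 2 + s + 1 := by
  by_contra h
  push Not at h
  have h1 := Nat.eq_prime_pow_of_unique_prime_dvd (n := s ^ 2 + s + 1) (p := 3) (by omega)
    fun {d} hd h' => by_contra fun e => h d hd e h'
  generalize (s ^ 2 + s + 1).primeFactorsList.length = k at h1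
  have h9 : ¬ 9 ∣ s ^ 2 + s + 1 := by
    have : s % 9 < 9 := Nat.mod_lt _ (by norm_num)
    rw [Nat.dvd_iff_mod_eq_zero, Nat.add_mod, Nat.add_mod (s ^ 2), Nat.pow_mod]
    generalize s % 9 = t at this
    interval_cases t <;> norm_num
  rcases k with _ | _ | k
  · rw [pow_zero] at h1; omega
  · rw [zero_add, pow_one] at h1; nlinarith
  · exact h9 (h1 ▸ ⟨3 ^ k, by ring⟩)

theorem main {F : Type} [Field F] [Fintype F] [CharP F 2] {q : ℕ} (h4 : 4 ≤ q) (h2 : 2 ∣ q)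
    (hF : Fintype.card F = q ^ 2) : Odd3 (PSU 3 F q) := by
  have := Fact.mk Nat.prime_two
  obtain ⟨z, hz⟩ := exists_z h2 hF
  have sp := (CL.Spec.lu_PSU (F := F) 2 hF (n := 3) (by omega)).mem_three_iff
  obtain ⟨s, rfl⟩ : ∃ s, q = s + 1 := ⟨q - 1, by omega⟩
  have e1 : (-((s + 1 : ℕ) : ℤ)) ^ 2 - 1 = ((s + 2) * s : ℕ) := by push_cast; ring
  have e2 : (-((s + 1 : ℕ) : ℤ)) - 1 = -(s + 2 : ℕ) := by push_cast; ring
  have e4 : (-((s + 1 : ℕ) : ℤ)) ^ 2 + -((s + 1 : ℕ) : ℤ) + 1 = (s ^ 2 + s + 1 : ℕ) := by push_cast; ring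
  have e3 : Int.gcd 3 ((s + 2 : ℕ) : ℤ) = Nat.gcd 3 (s + 2) := Int.gcd_natCast_natCast 3 _
  rw [e1, e2, e4, Int.gcd_neg, e3] at sp
  simp only [mul_neg, dvd_neg, true_and] at sp
  norm_cast at sp
  have d1 := Nat.gcd_dvd_left 3 (s + 2)
  have d2 := Nat.gcd_dvd_right 3 (s + 2)
  generalize Nat.gcd 3 (s + 2) = d at sp d1 d2
  have nec : ∀ g : PSU 3 F (s + 1), orderOf g ∣ s ^ 2 + s + 1 ∨ orderOf g ∣ (s + 2) * s ∨
      orderOf g ∣ 2 * (s + 2) ∨ orderOf g ∣ 4 := fun g => by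
    rcases (sp _).1 ⟨g, rfl⟩ with h | h | h | h | h
    exacts [.inl (dvd_of_mul_left_dvd h), .inr (.inl (dvd_of_mul_left_dvd h)), .inr (.inl (h.mul_right _)),
      .inr (.inr (.inl (dvd_of_mul_left_dvd h))), .inr (.inr (.inr h))]
  obtain ⟨k, hk⟩ : ∃ k, s = 2 * k + 1 := ⟨s / 2, by omega⟩
  have o1 : ¬ 2 ∣ s ^ 2 + s + 1 := by
    rw [show s ^ 2 + s + 1 = 2 * (2 * k ^ 2 + 3 * k + 1) + 1 by rw [hk]; ring]; omega
  have o2 : ¬ 2 ∣ (s + 2) * s := by
    rw [show (s + 2) * s = 2 * (2 * k ^ 2 + 4 * k + 1) + 1 by rw [hk]; ring]; omega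
  have odd : ∀ x : PSU 3 F (s + 1), (orderOf x).Prime → orderOf x ≠ 2 → ¬ orderOf x ∣ s + 2 →
      Odd (Nat.card cent(x)) := fun x hx hx2 hx3 => by
    have h0 : ¬ orderOf x ∣ 2 := fun e => hx2 ((Nat.prime_dvd_prime_iff_eq hx Nat.prime_two).1 e)
    rw [← Nat.not_even_iff_odd, even_iff_two_dvd]
    intro h
    obtain ⟨g, hg⟩ := exists_orderOf_mul Nat.prime_two h fun e =>
      hx2 ((Nat.prime_dvd_prime_iff_eq Nat.prime_two hx).1 e).symm
    rcases nec g with h | h | h | h <;> rw [hg] at h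
    exacts [o1 (dvd_of_mul_right_dvd h), o2 (dvd_of_mul_right_dvd h),
      hx3 (Nat.dvd_of_mul_dvd_mul_left two_pos h), h0 (Nat.dvd_of_mul_dvd_mul_left two_pos h)]
  obtain ⟨r1, p1, n1, a1⟩ := exists_prime (show 2 ≤ s by omega)
  obtain ⟨r2, p2, a2⟩ := Nat.exists_prime_and_dvd (show s ≠ 1 by omega)
  have i1 : s ^ 2 + s + 1 + (s + 2) = (s + 2) * s + 3 := by ring
  have b1 : r1 ≠ 2 := fun e => o1 (e ▸ a1)
  have b2 : r2 ≠ 2 := fun e => o2 (e ▸ a2.mul_left _)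
  have c1 : ¬ r1 ∣ s + 2 := fun e => n1 ((Nat.prime_dvd_prime_iff_eq p1 Nat.prime_three).1
    ((Nat.dvd_add_right (e.mul_right s)).1 (i1 ▸ dvd_add a1 e)))
  have c2 : ¬ r2 ∣ s + 2 := fun e => b2 ((Nat.prime_dvd_prime_iff_eq p2 Nat.prime_two).1 ((Nat.dvd_add_right a2).1 e))
  have c3 : ∀ r : ℕ, r.Prime → r ∣ s → ¬ r ∣ s ^ 2 + s + 1 := fun r hr h e =>
    hr.not_dvd_one ((Nat.dvd_add_right (dvd_add (h.trans (dvd_pow_self s two_ne_zero)) h)).1 e)
  have c4 : ¬ r1 ∣ 2 := fun e => b1 ((Nat.prime_dvd_prime_iff_eq p1 Nat.prime_two).1 e)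
  have d3 : d ∣ s ^ 2 + s + 1 := (Nat.dvd_add_left d2).1 (i1 ▸ dvd_add (d2.mul_right s) d1)
  obtain ⟨x, hx⟩ := (sp r1).2 (.inl (Nat.Coprime.mul_dvd_of_dvd_of_dvd
    (Nat.Coprime.coprime_dvd_left d1 ((Nat.coprime_primes Nat.prime_three p1).2 n1.symm)) d3 a1))
  obtain ⟨y, hy⟩ := (sp r2).2 (.inr (.inl (mul_dvd_mul d2 a2)))
  obtain ⟨t, ht⟩ := (sp 2).2 (.inr (.inr (.inr (.inr (by norm_num)))))
  have zo : ¬ 2 ∣ Nat.card cent(z) := fun e => by have := hz 2 Nat.prime_two e; omega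
  have x1 : r1 ∣ Nat.card cent(x) := hx ▸ orderOf_dvd_card_cent x
  have y1 : r2 ∣ Nat.card cent(y) := hy ▸ orderOf_dvd_card_cent y
  refine ⟨x, y, z, fun e => p1.one_lt.ne' (by rw [← hx, e, orderOf_one]),
    fun e => p2.one_lt.ne' (by rw [← hy, e, orderOf_one]), fun e => zo ?_, odd x (hx ▸ p1) (hx ▸ b1) (hx ▸ c1),
    odd y (hy ▸ p2) (hy ▸ b2) (hy ▸ c2), by rwa [← Nat.not_even_iff_odd, even_iff_two_dvd], fun e => ?_,
    fun e => c1 (hz r1 p1 (e ▸ x1)), fun e => c2 (hz r2 p2 (e ▸ y1))⟩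
  · rw [← ht]
    exact Subgroup.orderOf_dvd_natCard _ (mem_cent.2 (e ▸ Commute.one_right t))
  · obtain ⟨g, hg⟩ := exists_orderOf_mul p1 (e ▸ x1) fun h => c3 r1 p1 ((hy ▸ h : r1 ∣ r2).trans a2) a1
    rw [hy] at hg
    rcases nec g with h | h | h | h <;> rw [hg] at h
    · exact c3 r2 p2 a2 (dvd_of_mul_left_dvd h)
    · exact (p1.dvd_mul.1 (dvd_of_mul_right_dvd h)).elim c1 fun h => c3 r1 p1 h a1
    · exact (p1.dvd_mul.1 (dvd_of_mul_right_dvd h)).elim c4 c1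
    · exact (p1.dvd_mul.1 (show r1 ∣ 2 * 2 from dvd_of_mul_right_dvd h)).elim c4 c4

end U3a

theorem jU3 : JU3 := fun F _ _ n hn hF =>
  have := CL.Chev.U3.charP_two_of_card (F := F) (n := n * 2) (by rw [hF, pow_mul])
  U3a.main (Nat.pow_le_pow_right (n := 2) (by norm_num) hn) (dvd_pow_self 2 (by omega)) hF

end CL.Rk4
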